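import Cfsg.Agent.Lib.ThreeTrans.RadicalAbelian.FiveFixed

set_option autoImplicit false

/-!
When the quotient by the two core is `SU_5(2)`, the two core has a complement (owner: helper8).

The elements over `diag(ω², ω, ω, ω, ω)` act without fixed points, so each of them has unique commuting
lifts of everything in its centralizer. This gives one lift over each such element such that lifts over
orthogonal points commute; the lifts of transvections commuting with them generate a complement.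
-/

namespace CfsgLib.ThreeTrans.RadicalAbelian.Five

open Cfsg CfsgLib.Classical CfsgLib.Classical.Herm CfsgLib.ThreeTrans.UnitaryTransTwo
open CfsgLib.ThreeTrans.UniqueClass

variable {F : Type} [Field F] [Fintype F] (hF : Fintype.card F = 2 ^ 2) {w : F} (hw : w * w + w + 1 = 0)

local notation "B" => hermStd 5 hF

variable {G : Type*} [Group G] [Finite G] {D : Set G} {A : Type*} [AddCommGroup A]
  {φ : G →* HU (hermStd 5 hF)} (hker : ∀ g k, φ g = φ k → img g = img k)
  (hV : ∀ v ∈ pCore 2 G, φ v = 1)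
  (hsurj : ∀ s ∈ HSU (hermStd 5 hF), ∃ g, φ g = s)
  (hmem : ∀ d ∈ D, ∃ (u : Fin 5 → F) (hu : hermStd 5 hF u u = 0), u ≠ 0 ∧ φ d = t hF hu)
  (hcls : ∀ (u : Fin 5 → F) (hu : hermStd 5 hF u u = 0), u ≠ 0 → ∃ d ∈ D, φ d = t hF hu)
  (M : Act G A) (hD : IsThreeTranspositionClass D)
include hw hker hV hsurj hmem hcls M hD

/-- Uniqueness of commuting lifts. -/
theorem lift_unique {p : Fin 5 → F} {hp : hermStd 5 hF p p = 1} {z g k : G} (hz : φ z = Z hF hw hp)
    (hg : Commute g z) (hk : Commute k z) (h : φ g = φ k) : g = k := by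
  obtain ⟨a, ha⟩ := M.inc_surj _ (img_eq_iff.1 (hker g k h))
  have hfix : M.act z a = a := by
    apply M.inc_inj
    rw [M.inc_act, ha, ((hg.inv_left).mul_left hk).symm.eq, mul_inv_cancel_right]
  rw [eq_zero_of_fixed hF hw hker hcls M hD hp hz hfix hmem, M.inc_zero] at ha
  exact inv_mul_eq_one.1 ha.symm

/-- Lifts in a centralizer commute when their images do. -/
theorem lift_comm {p : Fin 5 → F} {hp : hermStd 5 hF p p = 1} {z g k : G} (hz : φ z = Z hF hw hp)
    (hg : Commute g z) (hk : Commute k z) (h : φ g * φ k = φ k * φ g) : Commute g k :=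
  lift_unique hF hw hker hV hsurj hmem hcls M hD hz (hg.mul_left hk) (hk.mul_left hg)
    (by rw [map_mul, map_mul, h])

/-- Existence of commuting lifts. -/
theorem lift_exists {p : Fin 5 → F} {hp : hermStd 5 hF p p = 1} {z : G} (hz : φ z = Z hF hw hp)
    {s : HU (hermStd 5 hF)} (hs : s ∈ HSU (hermStd 5 hF)) (hsz : s * Z hF hw hp = Z hF hw hp * s) :
    ∃ g, φ g = s ∧ Commute g z := by
  obtain ⟨g, hg⟩ := hsurj s hs
  haveI : Finite A := Finite.of_injective _ M.inc_inj
  have hv : g * z * g⁻¹ * z⁻¹ ∈ pCore 2 G := by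
    rw [← img_eq_one_iff, show img (g * z * g⁻¹ * z⁻¹) = img 1 from hker _ _ (by
      simp only [map_mul, map_inv, map_one, hg, hz, hsz]; group), map_one]
  obtain ⟨c, hc⟩ := M.inc_surj _ hv
  have hinj : Function.Injective fun x => x + M.act z x := by
    intro x y hxy
    have hxy' : x + M.act z x = y + M.act z y := hxy
    apply M.eq_iff.1
    refine eq_zero_of_fixed hF hw hker hcls M hD hp hz ?_ hmem
    rw [M.act_add, ← M.eq_iff]
    calc M.act z x + M.act z y + (x + y) = (x + M.act z x) + (y + M.act z y) := by abel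
      _ = 0 := by rw [hxy', M.self]
  obtain ⟨x, hx⟩ := Finite.surjective_of_injective hinj c
  have hx' : x + M.act z x = c := hx
  refine ⟨M.inc x * g, by rw [map_mul, hV _ (M.inc_mem x), one_mul, hg], ?_⟩
  show M.inc x * g * z = z * (M.inc x * g)
  have e1 : g * z = M.inc c * (z * g) := by rw [hc]; group
  have e2 : M.inc x * M.inc c = M.inc (M.act z x) := by
    rw [← M.inc_add, ← hx', ← add_assoc, M.self, zero_add]
  calc M.inc x * g * z = M.inc x * M.inc c * (z * g) := by rw [mul_assoc, e1, ← mul_assoc]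
    _ = z * (M.inc x * g) := by rw [e2, M.inc_act]; group

omit hker hV hsurj hmem hcls M hD in
theorem Z_comm_of_fix {s : HU (hermStd 5 hF)} {p : Fin 5 → F} (hp : hermStd 5 hF p p = 1) (h : ap hF s p = p) :
    s * Z hF hw hp = Z hF hw hp * s := by
  have e := Z_conj hF hw s hp
  rw [Z_congr hF hw _ hp h] at e
  exact mul_inv_eq_iff_eq_mul.1 e

variable {p₀ : Fin 5 → F} (hp₀ : hermStd 5 hF p₀ p₀ = 1) {z₀ : G} (hz₀ : φ z₀ = Z hF hw hp₀)

/-- The lift over `q` attached to `z₀`. -/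
def Rel (p₀ : Fin 5 → F) (z₀ : G) (q : Fin 5 → F) (g : G) : Prop :=
  ∃ (hq : hermStd 5 hF q q = 1) (a : Fin 5 → F) (ha : hermStd 5 hF a a = 1) (k : G),
    φ g = Z hF hw hq ∧ φ k = Z hF hw ha ∧ hermStd 5 hF p₀ a = 0 ∧ hermStd 5 hF q a = 0 ∧
      Commute k z₀ ∧ Commute g k

include hz₀

theorem link {q a : Fin 5 → F} (hq : hermStd 5 hF q q = 1) (ha : hermStd 5 hF a a = 1)
    (h0 : hermStd 5 hF p₀ a = 0) (hqa : hermStd 5 hF q a = 0) :
    ∃ k g, φ k = Z hF hw ha ∧ Commute k z₀ ∧ φ g = Z hF hw hq ∧ Commute g k := by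
  obtain ⟨k, hk, hkz⟩ := lift_exists hF hw hker hV hsurj hmem hcls M hD hz₀ (Z_mem hF hw ha)
    (Z_comm hF hw hp₀ ha h0).symm.eq
  obtain ⟨g, hg, hgk⟩ := lift_exists hF hw hker hV hsurj hmem hcls M hD hk (Z_mem hF hw hq)
    (Z_comm hF hw hq ha hqa).eq
  exact ⟨k, g, hk, hkz, hg, hgk⟩

theorem rel_exists {q : Fin 5 → F} (hq : hermStd 5 hF q q = 1) : ∃ g, Rel hF hw (φ := φ) p₀ z₀ q g := by
  obtain ⟨a, ha, h0, hqa⟩ := perp_two hF p₀ q
  obtain ⟨k, g, hk, hkz, hg, hgk⟩ := link hF hw hker hV hsurj hmem hcls M hD hp₀ hz₀ hq ha h0 hqa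
  exact ⟨g, hq, a, ha, k, hg, hk, h0, hqa, hkz, hgk⟩

theorem rel_unique {q : Fin 5 → F} {g g' : G} (hr : Rel hF hw (φ := φ) p₀ z₀ q g)
    (hr' : Rel hF hw (φ := φ) p₀ z₀ q g') : g = g' := by
  obtain ⟨hq, a, ha, k, hg, hk, h0a, hqa, hkz, hgk⟩ := hr
  obtain ⟨_, a', ha', k', hg', hk', h0a', hqa', hkz', hgk'⟩ := hr'
  have h := hermStd_isHerm (n := 5) hF
  -- lifts through orthogonal points agree
  have step : ∀ {a a' : Fin 5 → F} {ha : hermStd 5 hF a a = 1} {ha' : hermStd 5 hF a' a' = 1} {k k' g g' : G},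
      φ k = Z hF hw ha → φ k' = Z hF hw ha' → Commute k z₀ → Commute k' z₀ → hermStd 5 hF a a' = 0 →
      hermStd 5 hF q a' = 0 → φ g = Z hF hw hq → φ g' = Z hF hw hq → Commute g k → Commute g' k' → g = g' := by
    intro a a' ha ha' k k' g g' hk hk' hkz hkz' haa' hqa' hg hg' hgk hgk'
    have hkk' : Commute k' k := lift_comm hF hw hker hV hsurj hmem hcls M hD hz₀ hkz' hkz
      (by rw [hk, hk']; exact (Z_comm hF hw ha ha' haa').symm.eq)
    have hgk2 : Commute g k' := lift_comm hF hw hker hV hsurj hmem hcls M hD hk hgk hkk'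
      (by rw [hg, hk']; exact (Z_comm hF hw hq ha' hqa').eq)
    exact lift_unique hF hw hker hV hsurj hmem hcls M hD hk' hgk2 hgk' (hg.trans hg'.symm)
  -- the lift commutes with `z₀` when it can
  by_cases hc0 : hermStd 5 hF p₀ q = 0
  · obtain ⟨g₀, hg₀, hg₀z⟩ := lift_exists hF hw hker hV hsurj hmem hcls M hD hz₀ (Z_mem hF hw hq)
      (Z_comm hF hw hp₀ hq hc0).symm.eq
    have h1 : ∀ {a : Fin 5 → F} {ha : hermStd 5 hF a a = 1} {k g : G}, φ k = Z hF hw ha → Commute k z₀ →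
        hermStd 5 hF q a = 0 → φ g = Z hF hw hq → Commute g k → g = g₀ := by
      intro a ha k g hk hkz hqa hg hgk
      refine lift_unique hF hw hker hV hsurj hmem hcls M hD hk hgk ?_ (hg.trans hg₀.symm)
      exact lift_comm hF hw hker hV hsurj hmem hcls M hD hz₀ hg₀z hkz
        (by rw [hg₀, hk]; exact (Z_comm hF hw hq ha hqa).eq)
    exact (h1 hk hkz hqa hg hgk).trans (h1 hk' hkz' hqa' hg' hgk').symm
  set c := hermStd 5 hF p₀ q with hc
  have hcc : powHom hF c * c = 1 := UnitaryTransTwo.norm_one hF hc0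
  set r := q + c • p₀ with hr
  by_cases hr0 : r = 0
  · have hZ : Z hF hw hq = Z hF hw hp₀ := by
      refine ext_ap hF fun y => ?_
      have hqc : q = c • p₀ := by
        rw [← add_zero q, ← add_self_zero hF (c • p₀), ← add_assoc, ← hr, hr0, zero_add]
      rw [Z_apply, Z_apply, hqc, smul_left, smul_smul, mul_right_comm, hcc, one_mul]
    have h1 : ∀ {a : Fin 5 → F} {ha : hermStd 5 hF a a = 1} {k g : G}, φ k = Z hF hw ha → Commute k z₀ →
        φ g = Z hF hw hq → Commute g k → g = z₀ := fun hk hkz hg hgk =>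
      lift_unique hF hw hker hV hsurj hmem hcls M hD hk hgk hkz.symm (hg.trans (hZ.trans hz₀.symm))
    exact (h1 hk hkz hg hgk).trans (h1 hk' hkz' hg' hgk').symm
  have hq0 : hermStd 5 hF q p₀ = powHom hF c := (h.symm p₀ q).symm
  have hrr : hermStd 5 hF r r = 0 := by
    rw [hr]; simp only [map_add, LinearMap.add_apply, smul_left, smul_right, hp₀, hq, hq0, ← hc]
    linear_combination 3 * hcc + 2 * two_zero hF
  have hp0r : hermStd 5 hF p₀ r = 0 := by rw [hr, map_add, smul_right, hp₀, mul_one, ← hc, fadd hF]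
  have har : hermStd 5 hF a r = 0 := by
    rw [hr, map_add, smul_right, h.eq_zero_symm hqa, h.eq_zero_symm h0a, mul_zero, add_zero]
  obtain ⟨b, hb, h0b, hab, hrb⟩ := perp_three hF hp₀ ha h0a r
  have hqb : hermStd 5 hF q b = 0 := by
    have hqr : q = r + c • p₀ := by rw [hr, add_assoc, add_self_zero hF, add_zero]
    rw [hqr, add_left, smul_left, hrb, h0b, mul_zero, add_zero]
  by_cases haa' : hermStd 5 hF a a' = 0
  · exact step hk hk' hkz hkz' haa' hqa' hg hg' hgk hgk'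
  have hba' : hermStd 5 hF b a' = 0 := by
    by_contra hne
    set e := hermStd 5 hF a a' with he
    set s := a' + e • a with hs
    have hee : powHom hF e * e = 1 := UnitaryTransTwo.norm_one hF haa'
    have hba : hermStd 5 hF a' a = powHom hF e := (h.symm a a').symm
    have hss : hermStd 5 hF s s = 0 := by
      rw [hs]; simp only [map_add, LinearMap.add_apply, smul_left, smul_right, ha, ha', hba, ← he]
      linear_combination 3 * hee + 2 * two_zero hF
    have has : hermStd 5 hF a s = 0 := by rw [hs, map_add, smul_right, ha, mul_one, ← he, fadd hF]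
    have h0s : hermStd 5 hF p₀ s = 0 := by rw [hs, map_add, smul_right, h0a', h0a, mul_zero, add_zero]
    have hrs : hermStd 5 hF r s = 0 := by
      rw [hs, map_add, smul_right, hr, add_left, add_left, smul_left, smul_left, hqa', h0a', hqa, h0a]
      ring
    have hbs : hermStd 5 hF b s ≠ 0 := by
      rw [hs, map_add, smul_right, h.eq_zero_symm hab, mul_zero, add_zero]; exact hne
    have hbr : hermStd 5 hF b r = 0 := h.eq_zero_symm hrb
    refine no_triple hF ![p₀ + a, r, s] ?_ fun x hx => ?_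
    · intro i j
      fin_cases i <;> fin_cases j <;>
        simp [hp₀, ha, h0a, h.eq_zero_symm h0a, hrr, hss, hp0r, har, has, h0s, hrs, h.eq_zero_symm hp0r,
          h.eq_zero_symm har, h.eq_zero_symm has, h.eq_zero_symm h0s, h.eq_zero_symm hrs, one_add_one_eq_two,
          two_zero hF]
    · simp only [Fin.sum_univ_three, Matrix.cons_val] at hx
      have e1 := congrArg (hermStd 5 hF p₀) hx
      have e2 := congrArg (hermStd 5 hF b) hx
      simp only [map_add, smul_right, map_zero, hp₀, h0a, hp0r, h0s, mul_zero, add_zero, mul_one,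
        h.eq_zero_symm h0b, h.eq_zero_symm hab, hbr, zero_add, mul_eq_zero] at e1 e2
      have e3 := e2.resolve_right hbs
      rw [e1, e3, zero_smul, zero_smul, zero_add, add_zero, smul_eq_zero] at hx
      intro i
      fin_cases i
      · simpa using e1
      · simpa using hx.resolve_right hr0
      · simpa using e3
  obtain ⟨kb, gb, hkb, hkbz, hgb, hgbk⟩ := link hF hw hker hV hsurj hmem hcls M hD hp₀ hz₀ hq hb h0b hqb
  exact (step hk hkb hkz hkbz hab hqb hg hgb hgk hgbk).trans (step hkb hk' hkbz hkz' hba' hqa' hgb hg' hgbk hgk')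

/-- Lifts over orthogonal points commute. -/
theorem rel_commute {q q' : Fin 5 → F} {g g' : G} (hr : Rel hF hw (φ := φ) p₀ z₀ q g)
    (hr' : Rel hF hw (φ := φ) p₀ z₀ q' g') (h : hermStd 5 hF q q' = 0) : Commute g g' := by
  obtain ⟨hq, -⟩ := id hr
  obtain ⟨hq', -⟩ := id hr'
  obtain ⟨a, ha, hqa, hqa', h0a⟩ := perp_three hF hq hq' h p₀
  obtain ⟨k, g₁, hk, hkz, hg₁, hgk₁⟩ := link hF hw hker hV hsurj hmem hcls M hD hp₀ hz₀ hq ha h0a hqa
  obtain ⟨g₂, hg₂, hgk₂⟩ := lift_exists hF hw hker hV hsurj hmem hcls M hD hk (Z_mem hF hw hq')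
    (Z_comm hF hw hq' ha hqa').eq
  rw [rel_unique hF hw hker hV hsurj hmem hcls M hD hp₀ hz₀ hr ⟨hq, a, ha, k, hg₁, hk, h0a, hqa, hkz, hgk₁⟩,
    rel_unique hF hw hker hV hsurj hmem hcls M hD hp₀ hz₀ hr' ⟨hq', a, ha, k, hg₂, hk, h0a, hqa', hkz, hgk₂⟩]
  exact lift_comm hF hw hker hV hsurj hmem hcls M hD hk hgk₁ hgk₂
    (by rw [hg₁, hg₂]; exact (Z_comm hF hw hq hq' h).eq)

/-- Equivariance of a transvection commuting with one of the lifts. -/
theorem rel_conj {a c : Fin 5 → F} {hc : hermStd 5 hF c c = 0} (hca : hermStd 5 hF c a = 0) {g k : G}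
    (hk : Rel hF hw (φ := φ) p₀ z₀ a k) (hg : φ g = t hF hc) (hgk : Commute g k) {q : Fin 5 → F} {g₁ : G}
    (hr : Rel hF hw (φ := φ) p₀ z₀ q g₁) : Rel hF hw (φ := φ) p₀ z₀ (ap hF (φ g) q) (g * g₁ * g⁻¹) := by
  obtain ⟨hq, _, _, _, hg₁, -⟩ := id hr
  obtain ⟨ha, _, _, _, hka, -⟩ := id hk
  have hfa : ap hF (φ g) a = a := by rw [hg, ap, t_apply, hca, zero_smul, add_zero]
  obtain ⟨b, hb, hab, hqb⟩ := perp_two hF a q
  obtain ⟨kb, hkb⟩ := rel_exists hF hw hker hV hsurj hmem hcls M hD hp₀ hz₀ hb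
  obtain ⟨_, _, _, _, hkb', -⟩ := id hkb
  have hb' : hermStd 5 hF (ap hF (φ g) b) (ap hF (φ g) b) = 1 := (HU.map_eq _ _ _).trans hb
  have hq' : hermStd 5 hF (ap hF (φ g) q) (ap hF (φ g) q) = 1 := (HU.map_eq _ _ _).trans hq
  obtain ⟨kb₂, hkb₂⟩ := rel_exists hF hw hker hV hsurj hmem hcls M hD hp₀ hz₀ hb'
  obtain ⟨g₂, hg₂⟩ := rel_exists hF hw hker hV hsurj hmem hcls M hD hp₀ hz₀ hq'
  obtain ⟨_, _, _, _, hkb₂', -⟩ := id hkb₂
  obtain ⟨_, _, _, _, hg₂', -⟩ := id hg₂
  have hR := fun {x y : Fin 5 → F} {m m' : G} (h1 : Rel hF hw (φ := φ) p₀ z₀ x m)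
      (h2 : Rel hF hw (φ := φ) p₀ z₀ y m') (h3 : hermStd 5 hF x y = 0) =>
    rel_commute hF hw hker hV hsurj hmem hcls M hD hp₀ hz₀ h1 h2 h3
  have e1 : g * kb * g⁻¹ = kb₂ := by
    refine lift_unique hF hw hker hV hsurj hmem hcls M hD hka ?_ ?_ ?_
    · have := (commute_conj_iff (g := g)).2 (hR hk hkb hab).symm
      rwa [hgk.eq, mul_inv_cancel_right] at this
    · exact (hR hk hkb₂ (by rw [← hfa]; exact (HU.map_eq _ _ _).trans hab)).symm
    · simp only [map_mul, map_inv]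
      rw [hkb', hkb₂', Z_conj]
  have e2 : g * g₁ * g⁻¹ = g₂ := by
    refine lift_unique hF hw hker hV hsurj hmem hcls M hD hkb₂' ?_ (hR hg₂ hkb₂ ((HU.map_eq _ _ _).trans hqb)) ?_
    · rw [← e1]; exact commute_conj_iff.2 (hR hr hkb hqb)
    · simp only [map_mul, map_inv]
      rw [hg₁, hg₂', Z_conj]
  rw [e2]; exact hg₂

omit hz₀ in
theorem exists_complement : ∃ K : Subgroup G, (pCore 2 G).IsComplement' K := by
  obtain ⟨p₀, hp₀, -, -⟩ := perp_two hF (0 : Fin 5 → F) 0
  obtain ⟨z₀, hz₀⟩ := hsurj _ (Z_mem hF hw hp₀)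
  have hRe := fun {q : Fin 5 → F} (hq : hermStd 5 hF q q = 1) =>
    rel_exists hF hw hker hV hsurj hmem hcls M hD hp₀ hz₀ hq
  have hRu := fun {q : Fin 5 → F} {g g' : G} (hr : Rel hF hw (φ := φ) p₀ z₀ q g)
      (hr' : Rel hF hw (φ := φ) p₀ z₀ q g') => rel_unique hF hw hker hV hsurj hmem hcls M hD hp₀ hz₀ hr hr'
  set S : Set G := {g | ∃ (a c : Fin 5 → F) (hc : hermStd 5 hF c c = 0) (k : G), hermStd 5 hF c a = 0 ∧
    Rel hF hw (φ := φ) p₀ z₀ a k ∧ φ g = t hF hc ∧ Commute g k} with hS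
  have key : ∀ g ∈ Subgroup.closure S, ∀ q g₁, Rel hF hw (φ := φ) p₀ z₀ q g₁ →
      Rel hF hw (φ := φ) p₀ z₀ (ap hF (φ g) q) (g * g₁ * g⁻¹) := by
    intro g hg
    induction hg using Subgroup.closure_induction with
    | mem g hg =>
      obtain ⟨a, c, hc, k, hca, hk, hgt, hgk⟩ := hg
      exact fun q g₁ hr => rel_conj hF hw hker hV hsurj hmem hcls M hD hp₀ hz₀ hca hk hgt hgk hr
    | one =>
      intro q g₁ hr
      rw [map_one, one_mul, inv_one, mul_one]
      exact hr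
    | mul x y _ _ hx hy =>
      intro q g₁ hr
      rw [map_mul, ap_mul, show x * y * g₁ * (x * y)⁻¹ = x * (y * g₁ * y⁻¹) * x⁻¹ by group]
      exact hx _ _ (hy _ _ hr)
    | inv x _ hx =>
      intro q g₁ hr
      obtain ⟨hq, -⟩ := id hr
      have hq' : hermStd 5 hF (ap hF (φ x⁻¹) q) (ap hF (φ x⁻¹) q) = 1 := (HU.map_eq _ _ _).trans hq
      obtain ⟨g₂, hg₂⟩ := hRe hq'
      have h2 := hx _ _ hg₂
      rw [← ap_mul hF, ← map_mul, mul_inv_cancel, map_one] at h2
      rw [hRu hr h2, show x⁻¹ * (x * g₂ * x⁻¹) * x⁻¹⁻¹ = g₂ by group]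
      exact hg₂
  refine ⟨Subgroup.closure S, Subgroup.isComplement'_of_disjoint_and_mul_eq_univ ?_ ?_⟩
  · rw [Subgroup.disjoint_def]
    intro v hv hvK
    obtain ⟨g, hg⟩ := hRe hp₀
    have h1 := key v hvK p₀ g hg
    rw [hV v hv] at h1
    have hvg : v * g * v⁻¹ = g := hRu h1 hg
    obtain ⟨_, a, ha, k, hg', -⟩ := id hg
    exact lift_unique hF hw hker hV hsurj hmem hcls M hD hg' (mul_inv_eq_iff_eq_mul.1 hvg) (Commute.one_left g)
      (by rw [hV v hv, map_one])
  · rw [← Subgroup.normal_mul, Set.eq_univ_iff_forall]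
    have htop : (⊤ : Subgroup G) ≤ pCore 2 G ⊔ Subgroup.closure S := by
      rw [← hD.2.2, Subgroup.closure_le]
      intro d hd
      obtain ⟨c, hc, hc0, hdc⟩ := hmem d hd
      obtain ⟨a, ha, hca, -⟩ := perp_two hF c c
      obtain ⟨k, hk⟩ := hRe ha
      obtain ⟨_, _, _, _, hka, -⟩ := id hk
      obtain ⟨g, hg, hgk⟩ := lift_exists hF hw hker hV hsurj hmem hcls M hD hka
        ((hermStd_isHerm hF).trGroup_le ((hermStd_isHerm hF).tr_mem hc (skew_one hF)) :
          t hF hc ∈ HSU (hermStd 5 hF))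
        (Z_comm_of_fix hF hw ha (by rw [ap, t_apply, hca, zero_smul, add_zero]))
      have hdg : d * g⁻¹ ∈ pCore 2 G := img_eq_one_iff.1 (by
        rw [map_mul, map_inv, hker d g (hdc.trans hg.symm), mul_inv_cancel])
      have := mul_mem (Subgroup.mem_sup_left (T := Subgroup.closure S) hdg)
        (Subgroup.mem_sup_right (S := pCore 2 G) (Subgroup.subset_closure ⟨a, c, hc, k, hca, hk, hg, hgk⟩))
      rwa [inv_mul_cancel_right] at this
    exact fun x => htop (Subgroup.mem_top x)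

end CfsgLib.ThreeTrans.RadicalAbelian.Five
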