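import Cfsg.Agent.Lib.ThreeTrans.RadicalAbelian.FiveFrame
import Cfsg.Agent.Lib.ThreeTrans.UniqueClass.Base

set_option autoImplicit false

/-!
When the quotient by the two core is `SU_5(2)`, the elements over `diag(ω², ω, ω, ω, ω)` act on the two core
without non-trivial fixed points (owner: helper8).

For a member `d` with centre orthogonal to `p`, a point of `[V, d]` fixed by such an element is fixed by the
scalars of a three-dimensional space through the centre, and four trace conditions then kill it.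
-/

namespace CfsgLib.ThreeTrans.RadicalAbelian.Five

open Cfsg CfsgLib.Classical CfsgLib.Classical.Herm CfsgLib.ThreeTrans.UnitaryTransTwo
open CfsgLib.ThreeTrans.UniqueClass

variable {F : Type} [Field F] [Fintype F] (hF : Fintype.card F = 2 ^ 2)

local notation "B" => hermStd 5 hF

include hF

theorem exists_omega : ∃ w : F, w * w + w + 1 = 0 := by
  classical
  obtain ⟨w, hw0, hw1⟩ : ∃ w : F, w ≠ 0 ∧ w ≠ 1 := by
    by_contra hc
    push Not at hc
    have hle : (Finset.univ : Finset F) ⊆ {0, 1} := fun x _ => by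
      by_cases hx : x = 0
      · simp [hx]
      · simp [hc x hx]
    have := (Finset.card_le_card hle).trans Finset.card_le_two
    rw [Finset.card_univ, hF] at this
    omega
  have hw3 := UnitaryTransTwo.norm_one hF hw0
  rw [powHom_apply] at hw3
  have h3 : (w - 1) * (w * w + w + 1) = 0 := by linear_combination hw3
  exact ⟨w, (mul_eq_zero.1 h3).resolve_left (sub_ne_zero.2 hw1)⟩

variable {w : F} (hw : w * w + w + 1 = 0)
include hw

omit [Fintype F] hF in
theorem omega_ne : w ≠ 0 := fun e => one_ne_zero (α := F) (by simpa [e] using hw)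

theorem omega_sq_ne : w * w ≠ 0 := mul_ne_zero (omega_ne hw) (omega_ne hw)

theorem omega_sigma : powHom hF w = w * w := by rw [powHom_apply, pow_two]

theorem omega_cube : w * w * w = 1 := by linear_combination (w - 1) * hw

theorem omega_four : w * w * w * w = w := by rw [omega_cube hF hw, one_mul]

theorem one_add_omega : 1 + w ≠ 0 := fun e => omega_sq_ne hF hw (by linear_combination hw - e)

/-- The map `y ↦ ω y + h(p, y) p`. -/
theorem refl_preserves {p : Fin 5 → F} (hp : B p p = 1) (y z : Fin 5 → F) :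
    B ((w • (LinearMap.id : (Fin 5 → F) →ₗ[F] (Fin 5 → F)) + (B p).smulRight p) y)
      ((w • (LinearMap.id : (Fin 5 → F) →ₗ[F] (Fin 5 → F)) + (B p).smulRight p) z) = B y z := by
  simp only [LinearMap.add_apply, LinearMap.smul_apply, LinearMap.id_apply, LinearMap.smulRight_apply, map_add,
    smul_left, smul_right, hp, omega_sigma hF hw]
  rw [(hermStd_isHerm hF).symm p y]
  linear_combination (B p z * B y p) * hw + B y z * (w - 1) * hw

/-- The element `diag(ω², ω, ω, ω, ω)` at `p`. -/
noncomputable def Z {p : Fin 5 → F} (hp : B p p = 1) : HU (hermStd 5 hF) :=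
  (hermStd_isHerm hF).ofPreserves (w • (LinearMap.id : (Fin 5 → F) →ₗ[F] (Fin 5 → F)) + (B p).smulRight p)
    (refl_preserves hF hw hp)

theorem Z_apply {p : Fin 5 → F} (hp : B p p = 1) (y : Fin 5 → F) :
    ap hF (Z hF hw hp) y = w • y + B p y • p := by
  simp [Z, ap]

theorem Z_congr {p q : Fin 5 → F} (hp : B p p = 1) (hq : B q q = 1) (e : p = q) : Z hF hw hp = Z hF hw hq := by
  subst e; rfl

theorem Z_conj (g : HU (hermStd 5 hF)) {p : Fin 5 → F} (hp : B p p = 1) :
    g * Z hF hw hp * g⁻¹ = Z hF hw (p := ap hF g p) ((HU.map_eq g p p).trans hp) := by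
  rw [mul_inv_eq_iff_eq_mul]
  refine ext_ap hF fun y => ?_
  rw [ap_mul, ap_mul, Z_apply, Z_apply]
  simp only [ap, map_add, map_smul, HU.map_eq]

theorem Z_comm {p q : Fin 5 → F} (hp : B p p = 1) (hq : B q q = 1) (hpq : B p q = 0) :
    Commute (Z hF hw hp) (Z hF hw hq) := by
  refine ext_ap hF fun y => ?_
  rw [ap_mul, ap_mul]
  simp only [Z_apply, map_add, smul_right, hpq, (hermStd_isHerm hF).eq_zero_symm hpq, mul_zero, zero_smul, add_zero, smul_add,
    smul_smul]
  abel

variable {b : Fin 5 → (Fin 5 → F)} (hb : Frame hF b)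
include hb

omit hw in
theorem frame_one (i : Fin 5) : B (b i) (b i) = 1 := (hb i i).trans (if_pos rfl)

theorem Z_frame (i : Fin 5) (c : F) (k : Fin 5) :
    ap hF (Z hF hw (frame_one hF hb i)) (c • b k) = if k = i then (c * (w * w)) • b k else (c * w) • b k := by
  rw [Z_apply, smul_right, hb i k]
  by_cases h1 : k = i
  · subst h1
    rw [if_pos rfl, if_pos rfl, smul_smul, ← add_smul, mul_one]
    congr 1
    linear_combination c * (-hw) + (c * w + c) * two_zero hF
  · rw [if_neg h1, if_neg (Ne.symm h1), mul_zero, zero_smul, add_zero, smul_smul, mul_comm]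

omit hb in
theorem Z_mem {p : Fin 5 → F} (hp : B p p = 1) : Z hF hw hp ∈ HSU (hermStd 5 hF) := by
  obtain ⟨q, hq, hpq, -⟩ := perp_two hF p p
  obtain ⟨b, hb, hb0, -⟩ := frame_pair hF hp hq hpq
  let W := fun i j (hij : i ≠ j) =>
    sw hF hb (i := i) (j := j) hij (omega_ne hw) * sw hF hb (i := i) (j := j) hij (one_ne_zero (α := F))
  have hW : ∀ i j (hij : i ≠ j), W i j hij ∈ HSU (hermStd 5 hF) := fun i j hij =>
    mul_mem (sw_mem hF hb _ _) (sw_mem hF hb _ _)
  have e : Z hF hw hp = W 0 1 (by decide) * W 3 2 (by decide) * W 3 4 (by decide) := by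
    rw [Z_congr hF hw hp (frame_one hF hb 0) hb0.symm]
    refine frame_ext hF hb fun i => ?_
    rw [← one_smul F (b i)]
    fin_cases i <;> simp only [W, ap_mul, sw_apply, Z_frame hF hw hb, Fin.reduceFinMk, Fin.reduceEq, ↓reduceIte]
    all_goals congr 1
    all_goals grind
  rw [e]
  exact mul_mem (mul_mem (hW _ _ _) (hW _ _ _)) (hW _ _ _)

omit hb

variable {G : Type*} [Group G] {D : Set G} {A : Type*} [AddCommGroup A]
  {φ : G →* HU (hermStd 5 hF)} (hker : ∀ g k, φ g = φ k → img g = img k)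
  (hcls : ∀ (u : Fin 5 → F) (hu : hermStd 5 hF u u = 0), u ≠ 0 → ∃ d ∈ D, φ d = t hF hu)
  (M : Act G A) (hD : IsThreeTranspositionClass D)
include hker hcls hD

theorem member {b : Fin 5 → (Fin 5 → F)} (hb : Frame hF b) {i j : Fin 5} (hij : i ≠ j) {μ : F} (hμ : μ ≠ 0) :
    ∃ d ∈ D, φ d = sw hF hb hij hμ :=
  hcls _ (frame_iso hF hb hij hμ) (frame_ne hF hb hij μ)

omit hcls in
theorem comm_of_image {x y : G} (hx : x ∈ D) (hy : y ∈ D) (h : φ x * φ y = φ y * φ x) : Commute x y := by
  refine commute_of_img hD hx hy ?_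
  show img x * img y = img y * img x
  rw [← map_mul, ← map_mul]
  exact hker _ _ (by rw [map_mul, map_mul, h])

omit hcls in
theorem act_eq {x y : G} (h : φ x = φ y) (a : A) : M.act x a = M.act y a := M.act_img (hker x y h) a

omit hcls in
theorem T_eq {x y : G} (h : φ x = φ y) (a : A) : M.T x a = M.T y a := by
  rw [Act.T, Act.T, act_eq hF hw hker M hD h]

omit hcls in
theorem trace_sum {d e : G} (hd : d ∈ D) (he : e ∈ D) (hn : ¬ Commute d e) (a : A) :
    M.T d a + M.act (d * e) (M.T d a) + M.act (d * e) (M.act (d * e) (M.T d a)) = 0 := by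
  have h := M.trace_zero hD he hd (fun h => hn h.symm) a
  have e2 : e * d = d * e * (d * e) := by
    have h3 := pow_three hD.1 hd he hn
    rw [_root_.pow_succ, pow_two, mul_assoc (d * e)] at h3
    rw [← inv_inv (e * d), mul_inv_rev, inv_eq hD.1 hd, inv_eq hD.1 he]
    exact inv_eq_of_mul_eq_one_right h3
  have e3 : e * d * (e * d) = d * e := by
    rw [show e * d * (e * d) = (d * e * (d * e))⁻¹ by
      rw [mul_inv_rev, mul_inv_rev, inv_eq hD.1 hd, inv_eq hD.1 he], ← e2, mul_inv_rev, inv_eq hD.1 hd, inv_eq hD.1 he]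
  rw [← M.act_mul (e * d), e3] at h
  rw [e2, M.act_mul] at h
  rw [add_right_comm]; exact h

/-- The elements used in a three-dimensional space through the centre. -/
theorem scalar_data {b : Fin 5 → (Fin 5 → F)} (hb : Frame hF b) :
    ∃ d ∈ D, ∃ e ∈ D, ∃ f ∈ D, ∃ c₁ ∈ D, ∃ c₂ ∈ D,
      φ d = sw hF hb (i := 1) (j := 2) (μ := 1) (by decide) one_ne_zero ∧
      φ e = sw hF hb (i := 1) (j := 2) (μ := w) (by decide) (omega_ne hw) ∧
      φ f = sw hF hb (i := 2) (j := 3) (μ := 1) (by decide) one_ne_zero ∧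
      φ c₁ = sw hF hb (i := 0) (j := 4) (μ := w) (by decide) (omega_ne hw) ∧
      φ c₂ = sw hF hb (i := 0) (j := 4) (μ := 1) (by decide) one_ne_zero ∧
      Z hF hw (frame_one hF hb 0) = φ (d * e * (d * f) * (e * d) * (f * d) * (c₁ * c₂)) := by
  obtain ⟨d, hd, hd'⟩ := member hF hw hker hcls hD hb (i := 1) (j := 2) (μ := (1 : F)) (by decide) one_ne_zero
  obtain ⟨e, he, he'⟩ := member hF hw hker hcls hD hb (i := 1) (j := 2) (by decide) (omega_ne hw)
  obtain ⟨f, hf, hf'⟩ := member hF hw hker hcls hD hb (i := 2) (j := 3) (μ := (1 : F)) (by decide) one_ne_zero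
  obtain ⟨c₁, hc₁, hc₁'⟩ := member hF hw hker hcls hD hb (i := 0) (j := 4) (by decide) (omega_ne hw)
  obtain ⟨c₂, hc₂, hc₂'⟩ := member hF hw hker hcls hD hb (i := 0) (j := 4) (μ := (1 : F)) (by decide) one_ne_zero
  refine ⟨d, hd, e, he, f, hf, c₁, hc₁, c₂, hc₂, hd', he', hf', hc₁', hc₂', ?_⟩
  simp only [map_mul, hd', he', hf', hc₁', hc₂']
  refine frame_ext hF hb fun i => ?_
  rw [← one_smul F (b i)]
  fin_cases i <;> simp only [ap_mul, sw_apply, Z_frame hF hw hb, Fin.reduceFinMk, Fin.reduceEq, ↓reduceIte]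
  all_goals congr 1
  all_goals grind

set_option maxHeartbeats 2000000 in
/-- A fixed point is fixed by the members with centre orthogonal to `p`. -/
theorem fixed_perp {p : Fin 5 → F} (hp : B p p = 1) {g : G} (hg : φ g = Z hF hw hp) {a : A}
    (ha : M.act g a = a) {d₀ : G} (hd₀ : d₀ ∈ D) {u : Fin 5 → F} (hu : B u u = 0) (hu0 : u ≠ 0)
    (hpu : B p u = 0) (hd₀u : φ d₀ = t hF hu) : M.T d₀ a = 0 := by
  obtain ⟨b, hb, hb0, hub⟩ := frame_point hF hp hu hu0 hpu
  obtain ⟨d, hd, e, he, f, hf, c₁, hc₁, c₂, hc₂, hd', he', hf', hc₁', hc₂', hz⟩ := scalar_data hF hw hker hcls hD hb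
  obtain ⟨f₁, hf₁, hf₁'⟩ := member hF hw hker hcls hD hb (i := 2) (j := 3) (by decide) (omega_ne hw)
  obtain ⟨f₂, hf₂, hf₂'⟩ := member hF hw hker hcls hD hb (i := 2) (j := 3) (by decide) (omega_sq_ne hF hw)
  rw [T_eq hF hw hker M hD (y := d) (hd₀u.trans (by
    rw [hd']; exact t_congr hF _ _ one_ne_zero (by rw [one_smul, one_smul]; exact hub)))]
  set β := M.T d a with hβ
  have hgZ : φ g = Z hF hw (frame_one hF hb 0) := hg.trans (Z_congr hF hw hp _ hb0.symm)
  -- fixed by the element at `p`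
  have hgd : φ (g * d * g⁻¹) = φ d := by
    simp only [map_mul, map_inv, hgZ, hd']
    rw [mul_inv_eq_iff_eq_mul]
    refine frame_ext hF hb fun i => ?_
    rw [← one_smul F (b i)]
    fin_cases i <;> simp only [ap_mul, sw_apply, Z_frame hF hw hb, Fin.reduceFinMk, Fin.reduceEq, ↓reduceIte]
    all_goals congr 1
    all_goals grind
  have hgβ : M.act g β = β := by rw [hβ, M.act_T, ha, T_eq hF hw hker M hD hgd]
  set z := d * e * (d * f) * (e * d) * (f * d) with hzdef
  have hcd : ∀ (μ : F) (hμ : μ ≠ 0) (c : G), c ∈ D → φ c = sw hF hb (i := 0) (j := 4) (by decide) hμ →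
      M.act c β = β := fun μ hμ c hc hc' => M.fix_of_commute hD hc hd (comm_of_image hF hw hker hD hc hd (by
    rw [hc', hd']
    refine frame_ext hF hb fun i => ?_
    rw [← one_smul F (b i)]
    fin_cases i <;> simp only [ap_mul, sw_apply, Fin.reduceFinMk, Fin.reduceEq, ↓reduceIte]
    all_goals congr 1
    all_goals grind)) a
  have hzβ : M.act z β = β := by
    have h1 := act_eq hF hw hker M hD (hgZ.trans hz) β
    rw [hgβ, M.act_mul, M.act_mul c₁, hcd _ _ c₂ hc₂ hc₂', hcd _ _ c₁ hc₁ hc₁'] at h1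
    exact h1.symm
  have hnd : ∀ (k : G), k ∈ D → ∀ (v : Fin 5 → F) (hv : B v v = 0), φ k = t hF hv → B (b 1 + (1 : F) • b 2) v ≠ 0 →
      ¬ Commute d k := fun k _ v hv hk hne hc => by
    have := hc.map φ
    rw [hd', hk] at this
    exact t_not_comm hF _ hv hne (frame_ne hF hb (by decide) 1) this
  have hv1 : B (b 1 + (1 : F) • b 2) (b 1 + w • b 2) ≠ 0 := by
    simp only [map_add, LinearMap.add_apply, smul_left, smul_right, hb _ _, Fin.reduceEq, ↓reduceIte, map_one,
      mul_one, mul_zero, one_mul, add_zero, zero_add]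
    exact one_add_omega hF hw
  have hv2 : ∀ μ : F, B (b 1 + (1 : F) • b 2) (b 2 + μ • b 3) ≠ 0 := fun μ => by
    simp [hb _ _, one_ne_zero]
  have t0 := trace_sum hF hw hker M hD hd he (hnd e he _ _ he' hv1) a
  have t1 := trace_sum hF hw hker M hD hd hf (hnd f hf _ _ hf' (hv2 1)) a
  have t2 := trace_sum hF hw hker M hD hd hf₁ (hnd f₁ hf₁ _ _ hf₁' (hv2 _)) a
  have t3 := trace_sum hF hw hker M hD hd hf₂ (hnd f₂ hf₂ _ _ hf₂' (hv2 _)) a
  rw [← hβ] at t0 t1 t2 t3
  set x := d * e with hx
  set y := d * f with hy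
  set y₁ := d * f₁ with hy₁
  set y₂ := d * f₂ with hy₂
  have i1 : φ y₁ = φ (x * y * z) := by
    simp only [hzdef, hy₁, hx, hy, map_mul, hd', he', hf', hf₁']
    refine frame_ext hF hb fun i => ?_
    rw [← one_smul F (b i)]
    fin_cases i <;> simp only [ap_mul, sw_apply, Fin.reduceFinMk, Fin.reduceEq, ↓reduceIte]
    all_goals congr 1
    all_goals grind
  have i2 : φ y₂ = φ (x * x * y * (z * z)) := by
    simp only [hzdef, hy₂, hx, hy, map_mul, hd', he', hf', hf₂']
    refine frame_ext hF hb fun i => ?_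
    rw [← one_smul F (b i)]
    fin_cases i <;> simp only [ap_mul, sw_apply, Fin.reduceFinMk, Fin.reduceEq, ↓reduceIte]
    all_goals congr 1
    all_goals grind
  have i11 : φ (y₁ * y₁) = φ (x * x * (y * y) * z) := by
    simp only [hzdef, hy₁, hx, hy, map_mul, hd', he', hf', hf₁']
    refine frame_ext hF hb fun i => ?_
    rw [← one_smul F (b i)]
    fin_cases i <;> simp only [ap_mul, sw_apply, Fin.reduceFinMk, Fin.reduceEq, ↓reduceIte]
    all_goals congr 1
    all_goals grind
  have i22 : φ (y₂ * y₂) = φ (x * (y * y) * (z * z)) := by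
    simp only [hzdef, hy₂, hx, hy, map_mul, hd', he', hf', hf₂']
    refine frame_ext hF hb fun i => ?_
    rw [← one_smul F (b i)]
    fin_cases i <;> simp only [ap_mul, sw_apply, Fin.reduceFinMk, Fin.reduceEq, ↓reduceIte]
    all_goals congr 1
    all_goals grind
  have hzz : M.act (z * z) β = β := by rw [M.act_mul, hzβ, hzβ]
  rw [← M.act_mul y₁ y₁, act_eq hF hw hker M hD i1, act_eq hF hw hker M hD i11] at t2
  rw [← M.act_mul y₂ y₂, act_eq hF hw hker M hD i2, act_eq hF hw hker M hD i22] at t3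
  simp only [M.act_mul, hzβ, hzz] at t2 t3
  have t4 := congrArg (M.act x) t1
  have t5 := congrArg (M.act x) t4
  simp only [M.act_add, M.act_zero] at t4 t5
  -- sum the five relations
  have hz2 : ∀ c : A, (2 : ℕ) • c = 0 := fun c => by rw [two_nsmul]; exact M.self c
  have key : β + (2 : ℕ) • (β + M.act x β + M.act x (M.act x β) + M.act x (M.act y β) + M.act x (M.act y (M.act y β))
      + M.act x (M.act x (M.act y β)) + M.act x (M.act x (M.act y (M.act y β)))) =
      (β + M.act x β + M.act x (M.act x β))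
      + (M.act x β + M.act x (M.act y β) + M.act x (M.act y (M.act y β)))
      + (M.act x (M.act x β) + M.act x (M.act x (M.act y β)) + M.act x (M.act x (M.act y (M.act y β))))
      + (β + M.act x (M.act y β) + M.act x (M.act x (M.act y (M.act y β))))
      + (β + M.act x (M.act x (M.act y β)) + M.act x (M.act y (M.act y β))) := by abel
  rw [hz2, add_zero, t0, t4, t5, t2, t3, add_zero, add_zero, add_zero, add_zero] at key
  exact key

set_option maxHeartbeats 2000000 in
/-- Only the trivial point is fixed. -/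
theorem eq_zero_of_fixed {p : Fin 5 → F} (hp : B p p = 1) {g : G} (hg : φ g = Z hF hw hp) {a : A}
    (ha : M.act g a = a) (hmem : ∀ d ∈ D, ∃ (u : Fin 5 → F) (hu : B u u = 0), u ≠ 0 ∧ φ d = t hF hu) : a = 0 := by
  have h := hermStd_isHerm (n := 5) hF
  have hall : ∀ d ∈ D, M.act d a = a := by
    intro d₀ hd₀
    obtain ⟨c, hc, hc0, hd₀c⟩ := hmem d₀ hd₀
    by_cases hpc : B p c = 0
    · exact M.T_eq_zero.1 (fixed_perp hF hw hker hcls M hD hp hg ha hd₀ hc hc0 hpc hd₀c)
    set c' := (B p c)⁻¹ • c with hc'def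
    have hc'' : B c' c' = 0 := by rw [hc'def, smul_left, smul_right, hc, mul_zero, mul_zero]
    have hpc' : B p c' = 1 := by rw [hc'def, smul_right, inv_mul_cancel₀ hpc]
    have hcp : B c' p = 1 := by rw [← h.symm, hpc', map_one]
    set q := c' + p with hqdef
    have hq : B q q = 1 := by
      rw [hqdef]; simp only [map_add, LinearMap.add_apply, hc'', hpc', hcp, hp]; linear_combination two_zero hF
    have hpq : B p q = 0 := by rw [hqdef, map_add, hpc', hp, fadd hF]
    obtain ⟨b, hb, hb0, hb4⟩ := frame_pair hF hp hq hpq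
    obtain ⟨d, hd, e, he, f, hf, c₁, hc₁, c₂, hc₂, hd', he', hf', hc₁', hc₂', hz⟩ :=
      scalar_data hF hw hker hcls hD hb
    have hfix : ∀ (x : G), x ∈ D → ∀ (v : Fin 5 → F) (hv : B v v = 0), v ≠ 0 → B p v = 0 → φ x = t hF hv →
        M.act x a = a := fun x hx v hv hv0 hpv hxv =>
      M.T_eq_zero.1 (fixed_perp hF hw hker hcls M hD hp hg ha hx hv hv0 hpv hxv)
    have hp' : ∀ (i j : Fin 5) (μ : F), i ≠ 0 → j ≠ 0 → B p (b i + μ • b j) = 0 := fun i j μ hi hj => by
      rw [← hb0, map_add, smul_right, hb 0 i, hb 0 j, if_neg hi.symm, if_neg hj.symm, mul_zero, add_zero]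
    have fd := hfix d hd _ _ (frame_ne hF hb (by decide) 1) (hp' 1 2 1 (by decide) (by decide)) hd'
    have fe := hfix e he _ _ (frame_ne hF hb (by decide) w) (hp' 1 2 w (by decide) (by decide)) he'
    have ff := hfix f hf _ _ (frame_ne hF hb (by decide) 1) (hp' 2 3 1 (by decide) (by decide)) hf'
    have h1 := act_eq hF hw hker M hD ((hg.trans (Z_congr hF hw hp _ hb0.symm)).trans hz) a
    have hnc : ¬ Commute c₁ c₂ := fun hc => by
      have := hc.map φ
      rw [hc₁', hc₂'] at this
      refine t_not_comm hF _ _ ?_ (frame_ne hF hb (by decide) w) this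
      simp only [map_add, LinearMap.add_apply, smul_left, smul_right, hb _ _, Fin.reduceEq, ↓reduceIte,
        omega_sigma hF hw, mul_one, mul_zero, one_mul, add_zero, zero_add]
      intro e0
      exact one_add_omega hF hw (by linear_combination w * e0 - (w - 1) * hw)
    have hfd : ∀ c : A, M.act d (M.act d c) = c := fun c => by rw [← M.act_mul, mul_self hD.1 hd, M.act_one]
    have hfe : ∀ c : A, M.act e (M.act e c) = c := fun c => by rw [← M.act_mul, mul_self hD.1 he, M.act_one]
    have hff : ∀ c : A, M.act f (M.act f c) = c := fun c => by rw [← M.act_mul, mul_self hD.1 hf, M.act_one]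
    rw [ha, M.act_mul] at h1
    have h2 : M.act (c₁ * c₂) a = a := by
      have h3 := congrArg (fun c => M.act (d * f * (d * e) * (f * d) * (e * d)) c) h1
      simp only [M.act_mul, hfd, hfe, hff, fd, fe, ff] at h3 ⊢
      exact h3.symm
    have h4 := (M.fix_of_fix_mul hD hc₁ hc₂ hnc h2).2
    rw [act_eq hF hw hker M hD (y := c₂) (hd₀c.trans ?_) a, h4]
    rw [hc₂']
    exact t_congr hF _ hc (a := B p c) hpc (by
      rw [one_smul, hb4, hb0, hqdef, add_comm p, add_assoc, add_self_zero hF, add_zero, hc'def, smul_smul,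
        mul_inv_cancel₀ hpc, one_smul])
  have hcen : M.inc a ∈ Subgroup.center G := central_of_commute_all hD.2.2 fun d hd => by
    have := M.inc_act d a
    rw [hall d hd] at this
    exact (mul_inv_eq_iff_eq_mul.1 this.symm).symm
  rw [M.centre, Subgroup.mem_bot, ← M.inc_zero] at hcen
  exact M.inc_inj hcen

end CfsgLib.ThreeTrans.RadicalAbelian.Five
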