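import Cfsg.Agent.Lib.ThreeTrans.RadicalAbelian.Unitary

set_option autoImplicit false

/-!
Orthonormal frames of the five-dimensional hermitian space over the field with four elements, the monomial
transvections of a frame, and the only class of 3-transpositions of `SU_5(2)` (owner: helper8).
-/

namespace CfsgLib.ThreeTrans.RadicalAbelian.Five

open CfsgLib.Classical CfsgLib.Classical.Herm CfsgLib.ThreeTrans.UnitaryTransTwo

variable {F : Type} [Field F] [Fintype F] (hF : Fintype.card F = 2 ^ 2)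

local notation "B" => hermStd 5 hF

/-- Orthonormal frames. -/
def Frame (b : Fin 5 → (Fin 5 → F)) : Prop := ∀ i j, B (b i) (b j) = if i = j then 1 else 0

include hF

theorem no_triple (s : Fin 3 → (Fin 5 → F)) (hs : ∀ i j, B (s i) (s j) = 0)
    (hli : ∀ c : Fin 3 → F, ∑ i, c i • s i = 0 → ∀ i, c i = 0) : False := by
  have h := hermStd_isHerm (n := 5) hF
  let L : (Fin 5 → F) →ₗ[F] (Fin 3 → F) := LinearMap.pi fun i => B (s i)
  have hd := LinearMap.finrank_range_add_finrank_ker L
  rw [Module.finrank_fin_fun] at hd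
  have hli' : LinearIndependent F s := Fintype.linearIndependent_iff.2 hli
  have hk : 3 ≤ Module.finrank F (LinearMap.ker L) := by
    have h3 := finrank_span_eq_card hli'
    rw [Fintype.card_fin] at h3
    refine h3.symm.le.trans (Submodule.finrank_mono ((Submodule.span_le).2 ?_))
    rintro _ ⟨j, rfl⟩
    exact LinearMap.mem_ker.2 (funext fun i => hs i j)
  have hr : LinearMap.range L = ⊤ := by
    by_contra hne
    obtain ⟨φ, hφ0, hφ⟩ := Submodule.exists_le_ker_of_lt_top _ (lt_of_le_of_ne le_top hne)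
    let c : Fin 3 → F := fun i => φ (fun j => if i = j then 1 else 0)
    have hφc : ∀ v : Fin 3 → F, φ v = ∑ i, v i * c i := fun v => by
      conv_lhs => rw [pi_eq_sum_univ v]
      simp [c]
    have h0 : ∑ i, powHom hF (c i) • s i = 0 := by
      refine h.nondeg _ fun y => ?_
      have := hφ ⟨y, rfl⟩
      rw [LinearMap.mem_ker, hφc] at this
      rw [map_sum, LinearMap.sum_apply, ← this]
      refine Finset.sum_congr rfl fun i _ => ?_
      rw [smul_left, (powHom_isInvol hF).invol, mul_comm]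
      rfl
    refine hφ0 (LinearMap.ext fun v => ?_)
    rw [hφc, LinearMap.zero_apply]
    refine Finset.sum_eq_zero fun i _ => ?_
    rw [IsInvol.apply_eq_zero_iff.1 (hli _ h0 i), mul_zero]
  rw [hr, finrank_top, Module.finrank_fin_fun] at hd
  omega

theorem iso_polar {x y : Fin 5 → F} (hx : B x x = 0) (hy : B y y = 0)
    (h : ∀ c : F, B (x + c • y) (x + c • y) = 0) : B x y = 0 := by
  by_contra hne
  have hh := hermStd_isHerm (n := 5) hF
  obtain ⟨c, hc⟩ := (powHom_isInvol hF).exists_trace_eq (μ := (1 : F)) (map_one _)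
  have e := h (c / B x y)
  simp only [map_add, LinearMap.add_apply, smul_left, smul_right, hx, hy, mul_zero, add_zero, zero_add,
    ← hh.symm x y] at e
  rw [← map_mul, div_mul_cancel₀ _ hne] at e
  exact one_ne_zero (hc.symm.trans ((add_comm _ _).trans e))

/-- A unit vector orthogonal to two vectors. -/
theorem perp_two (v w : Fin 5 → F) : ∃ x, B x x = 1 ∧ B v x = 0 ∧ B w x = 0 := by
  have h := hermStd_isHerm (n := 5) hF
  let L : (Fin 5 → F) →ₗ[F] (Fin 2 → F) := LinearMap.pi ![B v, B w]
  by_contra hc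
  have hiso : ∀ x ∈ LinearMap.ker L, B x x = 0 := fun x hx => by
    by_contra hne
    exact hc ⟨x, fone hF hne (h.self_fixed x), congrFun (LinearMap.mem_ker.1 hx) 0,
      congrFun (LinearMap.mem_ker.1 hx) 1⟩
  have hd := LinearMap.finrank_range_add_finrank_ker L
  have hr : Module.finrank F (LinearMap.range L) ≤ 2 :=
    (Submodule.finrank_le _).trans (by rw [Module.finrank_fin_fun])
  rw [Module.finrank_fin_fun] at hd
  have hk : 3 ≤ Module.finrank F (LinearMap.ker L) := by omega
  obtain ⟨s, hs⟩ := exists_linearIndependent_of_le_finrank hk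
  refine no_triple hF (fun i => (s i : Fin 5 → F)) (fun i j => ?_) fun c e => ?_
  · exact iso_polar hF (hiso _ (s i).2) (hiso _ (s j).2) fun c =>
      hiso _ (add_mem (s i).2 (Submodule.smul_mem _ c (s j).2))
  · refine Fintype.linearIndependent_iff.1 hs c (Subtype.ext ?_)
    rw [Submodule.coe_sum]
    exact e

/-- A unit vector orthogonal to two orthogonal unit vectors and a third vector. -/
theorem perp_three {p a : Fin 5 → F} (hp : B p p = 1) (ha : B a a = 1) (hpa : B p a = 0) (v : Fin 5 → F) :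
    ∃ x, B x x = 1 ∧ B p x = 0 ∧ B a x = 0 ∧ B v x = 0 := by
  have h := hermStd_isHerm (n := 5) hF
  let L : (Fin 5 → F) →ₗ[F] (Fin 3 → F) := LinearMap.pi ![B p, B a, B v]
  by_contra hc
  have hiso : ∀ x ∈ LinearMap.ker L, B x x = 0 := fun x hx => by
    by_contra hne
    exact hc ⟨x, fone hF hne (h.self_fixed x), congrFun (LinearMap.mem_ker.1 hx) 0,
      congrFun (LinearMap.mem_ker.1 hx) 1, congrFun (LinearMap.mem_ker.1 hx) 2⟩
  have hd := LinearMap.finrank_range_add_finrank_ker L
  have hr : Module.finrank F (LinearMap.range L) ≤ 3 :=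
    (Submodule.finrank_le _).trans (by rw [Module.finrank_fin_fun])
  rw [Module.finrank_fin_fun] at hd
  have hk : 2 ≤ Module.finrank F (LinearMap.ker L) := by omega
  obtain ⟨s, hs⟩ := exists_linearIndependent_of_le_finrank hk
  have hss : ∀ i j, B (s i : Fin 5 → F) (s j) = 0 := fun i j =>
    iso_polar hF (hiso _ (s i).2) (hiso _ (s j).2) fun c => hiso _ (add_mem (s i).2 (Submodule.smul_mem _ c (s j).2))
  have hap : B a p = 0 := h.eq_zero_symm hpa
  have hps : ∀ i, B p (s i : Fin 5 → F) = 0 := fun i => congrFun (LinearMap.mem_ker.1 (s i).2) 0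
  have has : ∀ i, B a (s i : Fin 5 → F) = 0 := fun i => congrFun (LinearMap.mem_ker.1 (s i).2) 1
  have hw : B (p + a) (p + a) = 0 := by
    simp only [map_add, LinearMap.add_apply, hp, ha, hpa, hap]; linear_combination two_zero hF
  refine no_triple hF ![(s 0 : Fin 5 → F), s 1, p + a] ?_ fun c e => ?_
  · intro i j
    fin_cases i <;> fin_cases j <;>
      simp [hss, hps, has, hp, ha, hpa, hap, one_add_one_eq_two, two_zero hF, h.eq_zero_symm (hps _), h.eq_zero_symm (has _)]
  · simp only [Fin.sum_univ_three, Matrix.cons_val] at e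
    have e2 := congrArg (B p) e
    simp only [map_add, smul_right, map_zero, hps, hp, hpa, mul_zero, zero_add, add_zero, mul_one] at e2
    rw [e2, zero_smul, add_zero] at e
    have e3 : c 0 • s 0 + c 1 • s 1 = 0 := Subtype.ext e
    have e4 := Fintype.linearIndependent_iff.1 hs ![c 0, c 1] (by rw [Fin.sum_univ_two]; simpa using e3)
    intro i
    fin_cases i
    · simpa using e4 0
    · simpa using e4 1
    · simpa using e2

/-- A unit vector orthogonal to four orthogonal unit vectors. -/
theorem perp_four {p a q r : Fin 5 → F} (hp : B p p = 1) (ha : B a a = 1) (hq : B q q = 1) (hr : B r r = 1)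
    (h1 : B p a = 0) (h2 : B p q = 0) (h3 : B p r = 0) (h4 : B a q = 0) (h5 : B a r = 0) (h6 : B q r = 0) :
    ∃ x, B x x = 1 ∧ B p x = 0 ∧ B a x = 0 ∧ B q x = 0 ∧ B r x = 0 := by
  have h := hermStd_isHerm (n := 5) hF
  let L : (Fin 5 → F) →ₗ[F] (Fin 4 → F) := LinearMap.pi ![B p, B a, B q, B r]
  have hd := LinearMap.finrank_range_add_finrank_ker L
  have hr' : Module.finrank F (LinearMap.range L) ≤ 4 :=
    (Submodule.finrank_le _).trans (by rw [Module.finrank_fin_fun])
  rw [Module.finrank_fin_fun] at hd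
  obtain ⟨x, hxk, hx0⟩ := Submodule.exists_mem_ne_zero_of_ne_bot (p := LinearMap.ker L) (fun e => by
    rw [e, finrank_bot] at hd; omega)
  have k0 : B p x = 0 := congrFun (LinearMap.mem_ker.1 hxk) 0
  have k1 : B a x = 0 := congrFun (LinearMap.mem_ker.1 hxk) 1
  have k2 : B q x = 0 := congrFun (LinearMap.mem_ker.1 hxk) 2
  have k3 : B r x = 0 := congrFun (LinearMap.mem_ker.1 hxk) 3
  refine ⟨x, fone hF (fun hxx => no_triple hF ![x, p + a, q + r] ?_ fun c e => ?_) (h.self_fixed x), k0, k1, k2, k3⟩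
  · intro i j
    fin_cases i <;> fin_cases j <;>
      simp [hxx, hp, ha, hq, hr, h1, h2, h3, h4, h5, h6, h.eq_zero_symm h1, h.eq_zero_symm h2, h.eq_zero_symm h3,
        h.eq_zero_symm h4, h.eq_zero_symm h5, h.eq_zero_symm h6, k0, k1, k2, k3, h.eq_zero_symm k0,
        h.eq_zero_symm k1, h.eq_zero_symm k2, h.eq_zero_symm k3, one_add_one_eq_two, two_zero hF]
  · simp only [Fin.sum_univ_three, Matrix.cons_val] at e
    have e1 := congrArg (B p) e
    have e2 := congrArg (B q) e
    simp only [map_add, smul_right, map_zero, k0, k2, hp, hq, h1, h2, h3, h6, h.eq_zero_symm h2,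
      h.eq_zero_symm h4, mul_zero, zero_add, add_zero, mul_one] at e1 e2
    rw [e1, e2, zero_smul, zero_smul, add_zero, add_zero, smul_eq_zero] at e
    intro i
    fin_cases i
    · simpa using e.resolve_right hx0
    · simpa using e1
    · simpa using e2

theorem frame_of {p a q r x : Fin 5 → F} (hp : B p p = 1) (ha : B a a = 1) (hq : B q q = 1) (hr : B r r = 1)
    (hx : B x x = 1) (h1 : B p a = 0) (h2 : B p q = 0) (h3 : B p r = 0) (h4 : B a q = 0) (h5 : B a r = 0)
    (h6 : B q r = 0) (k0 : B p x = 0) (k1 : B a x = 0) (k2 : B q x = 0) (k3 : B r x = 0) :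
    Frame hF ![p, a, q, r, x] := by
  have h := hermStd_isHerm (n := 5) hF
  intro i j
  fin_cases i <;> fin_cases j <;>
    simp [hp, ha, hq, hr, hx, h1, h2, h3, h4, h5, h6, h.eq_zero_symm h1, h.eq_zero_symm h2, h.eq_zero_symm h3,
      h.eq_zero_symm h4, h.eq_zero_symm h5, h.eq_zero_symm h6, k0, k1, k2, k3, h.eq_zero_symm k0,
      h.eq_zero_symm k1, h.eq_zero_symm k2, h.eq_zero_symm k3]

/-- An isotropic vector and a unit vector orthogonal to it in a frame. -/
theorem frame_point {p u : Fin 5 → F} (hp : B p p = 1) (hu : B u u = 0) (hu0 : u ≠ 0) (hpu : B p u = 0) :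
    ∃ b, Frame hF b ∧ b 0 = p ∧ u = b 1 + b 2 := by
  have h := hermStd_isHerm (n := 5) hF
  have hup : B u p = 0 := h.eq_zero_symm hpu
  obtain ⟨f, hf⟩ := h.exists_apply_eq_one hu0
  set g := f + B p f • p with hg
  have hgu : B u g = 1 := by rw [hg, map_add, smul_right, hup, mul_zero, add_zero, hf]
  have hgp : B p g = 0 := by rw [hg, map_add, smul_right, hp, mul_one, fadd hF]
  have hgu' : B g u = 1 := by rw [← h.symm, hgu, map_one]
  obtain ⟨c, hc⟩ := (powHom_isInvol hF).exists_trace_eq (μ := B g g + 1) (by rw [map_add, map_one, h.self_fixed])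
  set b1 := g + c • u with hb1
  have hb11 : B b1 b1 = 1 := by
    rw [hb1]; simp only [map_add, LinearMap.add_apply, smul_left, smul_right, hu, hgu, hgu']
    linear_combination hc + B g g * two_zero hF
  have hub : B u b1 = 1 := by rw [hb1, map_add, smul_right, hu, mul_zero, add_zero, hgu]
  have hbu : B b1 u = 1 := by rw [← h.symm, hub, map_one]
  have hpb : B p b1 = 0 := by rw [hb1, map_add, smul_right, hgp, hpu, mul_zero, add_zero]
  set b2 := u + b1 with hb2
  have hb22 : B b2 b2 = 1 := by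
    rw [hb2]; simp only [map_add, LinearMap.add_apply, hu, hub, hbu, hb11]; linear_combination two_zero hF
  have hb12 : B b1 b2 = 0 := by rw [hb2, map_add, hbu, hb11, fadd hF]
  have hpb2 : B p b2 = 0 := by rw [hb2, map_add, hpu, hpb, add_zero]
  obtain ⟨b3, h33, h13, h23, hp3⟩ := perp_three hF hb11 hb22 hb12 p
  obtain ⟨b4, h44, k0, k1, k2, k3⟩ := perp_four hF hp hb11 hb22 h33 hpb hpb2 hp3 hb12 h13 h23
  refine ⟨![p, b1, b2, b3, b4], frame_of hF hp hb11 hb22 h33 h44 hpb hpb2 hp3 hb12 h13 h23 k0 k1 k2 k3, rfl, ?_⟩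
  show u = b1 + b2
  rw [hb2, add_comm u b1, ← add_assoc, add_self_zero hF, zero_add]

/-- Two orthogonal unit vectors in a frame. -/
theorem frame_pair {p q : Fin 5 → F} (hp : B p p = 1) (hq : B q q = 1) (hpq : B p q = 0) :
    ∃ b, Frame hF b ∧ b 0 = p ∧ b 4 = q := by
  have h := hermStd_isHerm (n := 5) hF
  obtain ⟨b1, h11, hp1, hq1, -⟩ := perp_three hF hp hq hpq 0
  obtain ⟨b2, h22, hp2, hq2, h12⟩ := perp_three hF hp hq hpq b1
  obtain ⟨b3, h33, k0, k1, k2, k3⟩ := perp_four hF hp h11 h22 hq hp1 hp2 hpq h12 (h.eq_zero_symm hq1)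
    (h.eq_zero_symm hq2)
  exact ⟨![p, b1, b2, b3, q], frame_of hF hp h11 h22 h33 hq hp1 hp2 k0 h12 k1 k2 hpq (h.eq_zero_symm hq1)
    (h.eq_zero_symm hq2) (h.eq_zero_symm k3), rfl, rfl⟩

/-- Two orthogonal isotropic vectors in a frame. -/
theorem frame_line {a c : Fin 5 → F} (ha : B a a = 0) (hc : B c c = 0) (hac : B a c = 0)
    (hli : LinearIndependent F ![a, c]) : ∃ b, Frame hF b ∧ a = b 1 + b 2 ∧ c = b 3 + b 4 := by
  have h := hermStd_isHerm (n := 5) hF
  have hca : B c a = 0 := h.eq_zero_symm hac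
  obtain ⟨g, hgg, hcg, hag⟩ :=
    h.exists_perp_partner (u := a) (w := c) (LinearIndependent.pair_symm_iff.1 hli) ha hca
  obtain ⟨x, hx⟩ := (powHom_isInvol hF).exists_trace_eq (μ := (1 : F)) (map_one _)
  have hga : B g a = 1 := by rw [← h.symm, hag, map_one]
  set b1 := g + x • a with hb1
  have hb11 : B b1 b1 = 1 := by
    rw [hb1]; simp only [map_add, LinearMap.add_apply, smul_left, smul_right, ha, hag, hga, hgg]
    linear_combination hx
  have hab : B a b1 = 1 := by rw [hb1, map_add, smul_right, ha, mul_zero, add_zero, hag]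
  have hba : B b1 a = 1 := by rw [← h.symm, hab, map_one]
  have hcb : B c b1 = 0 := by rw [hb1, map_add, smul_right, hcg, hca, mul_zero, add_zero]
  set b2 := a + b1 with hb2
  have hb22 : B b2 b2 = 1 := by
    rw [hb2]; simp only [map_add, LinearMap.add_apply, ha, hab, hba, hb11]; linear_combination two_zero hF
  have hb12 : B b1 b2 = 0 := by rw [hb2, map_add, hba, hb11, fadd hF]
  have hb21 : B b2 b1 = 0 := h.eq_zero_symm hb12
  have hcb2 : B c b2 = 0 := by rw [hb2, map_add, hca, hcb, add_zero]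
  have hc0 : c ≠ 0 := by simpa using hli.ne_zero 1
  obtain ⟨f, hf⟩ := h.exists_apply_eq_one hc0
  set f1 := f + B b1 f • b1 + B b2 f • b2 with hf1
  have hcf : B c f1 = 1 := by
    rw [hf1, map_add, map_add, smul_right, smul_right, hcb, hcb2, mul_zero, mul_zero, add_zero, add_zero, hf]
  have h1f : B b1 f1 = 0 := by
    rw [hf1, map_add, map_add, smul_right, smul_right, hb11, hb12, mul_zero, add_zero, mul_one, fadd hF]
  have h2f : B b2 f1 = 0 := by
    rw [hf1, map_add, map_add, smul_right, smul_right, hb21, hb22, mul_zero, add_zero, mul_one, fadd hF]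
  obtain ⟨y, hy⟩ := (powHom_isInvol hF).exists_trace_eq (μ := B f1 f1 + 1) (by rw [map_add, map_one, h.self_fixed])
  have hfc : B f1 c = 1 := by rw [← h.symm, hcf, map_one]
  set b3 := f1 + y • c with hb3
  have h33 : B b3 b3 = 1 := by
    rw [hb3]; simp only [map_add, LinearMap.add_apply, smul_left, smul_right, hc, hcf, hfc]
    linear_combination hy + B f1 f1 * two_zero hF
  have h13 : B b1 b3 = 0 := by rw [hb3, map_add, smul_right, h1f, h.eq_zero_symm hcb, mul_zero, add_zero]
  have h23 : B b2 b3 = 0 := by rw [hb3, map_add, smul_right, h2f, h.eq_zero_symm hcb2, mul_zero, add_zero]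
  have hc3 : B c b3 = 1 := by rw [hb3, map_add, smul_right, hc, mul_zero, add_zero, hcf]
  have h3c : B b3 c = 1 := by rw [← h.symm, hc3, map_one]
  set b4 := c + b3 with hb4
  have h44 : B b4 b4 = 1 := by
    rw [hb4]; simp only [map_add, LinearMap.add_apply, hc, hc3, h3c, h33]; linear_combination two_zero hF
  have h34 : B b3 b4 = 0 := by rw [hb4, map_add, h3c, h33, fadd hF]
  have h14 : B b1 b4 = 0 := by rw [hb4, map_add, h.eq_zero_symm hcb, h13, add_zero]
  have h24 : B b2 b4 = 0 := by rw [hb4, map_add, h.eq_zero_symm hcb2, h23, add_zero]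
  obtain ⟨b0, h00, k1, k2, k3, k4⟩ := perp_four hF hb11 hb22 h33 h44 hb12 h13 h14 h23 h24 h34
  refine ⟨![b0, b1, b2, b3, b4], frame_of hF h00 hb11 hb22 h33 h44 (h.eq_zero_symm k1) (h.eq_zero_symm k2)
    (h.eq_zero_symm k3) hb12 h13 h23 (h.eq_zero_symm k4) h14 h24 h34, ?_, ?_⟩
  · show a = b1 + b2
    rw [hb2, add_comm a b1, ← add_assoc, add_self_zero hF, zero_add]
  · show c = b3 + b4
    rw [hb4, add_comm c b3, ← add_assoc, add_self_zero hF, zero_add]

variable {b : Fin 5 → (Fin 5 → F)} (hb : Frame hF b)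
include hb

theorem frame_iso {i j : Fin 5} (hij : i ≠ j) {μ : F} (hμ : μ ≠ 0) : B (b i + μ • b j) (b i + μ • b j) = 0 := by
  simp only [map_add, LinearMap.add_apply, smul_left, smul_right, hb i i, hb i j, hb j i, hb j j, if_pos rfl,
    if_neg hij, if_neg hij.symm, ↓reduceIte]
  linear_combination UnitaryTransTwo.norm_one hF hμ + two_zero hF

theorem frame_ne {i j : Fin 5} (hij : i ≠ j) (μ : F) : b i + μ • b j ≠ 0 := fun e => one_ne_zero (α := F) (by
  have := congrArg (B (b i)) e
  rw [map_add, smul_right, hb i i, hb i j, if_pos rfl, if_neg hij, mul_zero, add_zero, map_zero] at this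
  exact this)

/-- The monomial transvection moving `b i` to `μ b j`. -/
noncomputable def sw {i j : Fin 5} (hij : i ≠ j) {μ : F} (hμ : μ ≠ 0) : HU (hermStd 5 hF) :=
  t hF (frame_iso hF hb hij hμ)

theorem sw_apply {i j : Fin 5} (hij : i ≠ j) {μ : F} (hμ : μ ≠ 0) (c : F) (k : Fin 5) :
    ap hF (sw hF hb hij hμ) (c • b k) =
      if k = i then (c * μ) • b j else if k = j then (c * μ ^ 2) • b i else c • b k := by
  rw [sw, ap, t_apply, smul_right, map_add, LinearMap.add_apply, smul_left, hb i k, hb j k, powHom_apply]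
  by_cases h1 : k = i
  · subst h1
    rw [if_pos rfl, if_pos rfl, if_neg hij.symm, mul_zero, add_zero, mul_one, smul_add, smul_smul, ← add_assoc,
      add_self_zero hF, zero_add]
  · rw [if_neg h1, if_neg (Ne.symm h1)]
    by_cases h2 : k = j
    · subst h2
      have h3 := norm_one hF hμ
      rw [powHom_apply] at h3
      rw [if_pos rfl, if_pos rfl, zero_add, mul_one, smul_add, smul_smul, mul_assoc, h3, mul_one, add_comm _ (c • b k),
        ← add_assoc, add_self_zero hF, zero_add]
    · rw [if_neg h2, if_neg (Ne.symm h2), mul_zero, add_zero, mul_zero, zero_smul, add_zero]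

theorem frame_ext {g k : HU (hermStd 5 hF)} (h : ∀ i, ap hF g (b i) = ap hF k (b i)) : g = k := by
  have hli : LinearIndependent F b := by
    rw [Fintype.linearIndependent_iff]
    intro c hc i
    have h2 := congrArg (B (b i)) hc
    simpa [map_sum, hb i] using h2
  refine Subtype.ext (LinearEquiv.toLinearMap_injective ?_)
  exact (basisOfLinearIndependentOfCardEqFinrank hli (by simp)).ext fun i => by
    rw [coe_basisOfLinearIndependentOfCardEqFinrank]; exact h i

theorem sw_mem {i j : Fin 5} (hij : i ≠ j) {μ : F} (hμ : μ ≠ 0) : sw hF hb hij hμ ∈ HSU (hermStd 5 hF) :=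
  (hermStd_isHerm hF).trGroup_le ((hermStd_isHerm hF).tr_mem (frame_iso hF hb hij hμ) (skew_one hF))

theorem frame_ne_zero (i : Fin 5) : b i ≠ 0 := fun e => one_ne_zero (α := F) (by
  have := hb i i
  rw [if_pos rfl, e, map_zero] at this
  exact this.symm)

theorem frame_inj {i j : Fin 5} (e : b i = b j) : i = j := by
  by_contra hne
  have := hb i j
  rw [if_neg hne, ← e, hb i i, if_pos rfl] at this
  exact one_ne_zero this

theorem order_five :
    ∃ s ∈ HSU (hermStd 5 hF), ∀ g : HU (hermStd 5 hF),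
      g = sw hF hb (i := 1) (j := 2) (μ := 1) (by decide) one_ne_zero * sw hF hb (i := 3) (j := 4) (μ := 1) (by decide) one_ne_zero →
      (g * (s * g * s⁻¹)) ^ 2 ≠ 1 ∧ (g * (s * g * s⁻¹)) ^ 3 ≠ 1 := by
  let S := fun i j (hij : i ≠ j) => sw hF hb (i := i) (j := j) hij (one_ne_zero (α := F))
  let s := S 3 4 (by decide) * S 2 3 (by decide) * S 1 2 (by decide) * S 0 1 (by decide)
  refine ⟨s, mul_mem (mul_mem (mul_mem (sw_mem hF hb _ _) (sw_mem hF hb _ _)) (sw_mem hF hb _ _)) (sw_mem hF hb _ _),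
    fun g hg => ?_⟩
  subst hg
  have hS : ∀ i j (hij : i ≠ j) (k : Fin 5), ap hF (S i j hij) (b k) =
      if k = i then b j else if k = j then b i else b k := fun i j hij k => by
    have := sw_apply hF hb hij (one_ne_zero (α := F)) 1 k
    simpa only [one_smul, one_pow, mul_one] using this
  have hconj : s * (S 1 2 (by decide) * S 3 4 (by decide)) * s⁻¹ = S 0 1 (by decide) * S 2 3 (by decide) := by
    rw [mul_inv_eq_iff_eq_mul]
    refine frame_ext hF hb fun i => ?_
    fin_cases i <;> simp [s, ap_mul, hS]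
  rw [hconj]
  set m := S 1 2 (by decide) * S 3 4 (by decide) * (S 0 1 (by decide) * S 2 3 (by decide)) with hm
  refine ⟨fun e => ?_, fun e => ?_⟩
  · have e2 := congrArg (fun k => ap hF k (b 0)) e
    simp [pow_succ, hm, ap_mul, hS] at e2
    exact absurd (frame_inj hF hb e2) (by decide)
  · have e2 := congrArg (fun k => ap hF k (b 0)) e
    simp [pow_succ, hm, ap_mul, hS] at e2
    exact absurd (frame_inj hF hb e2) (by decide)

omit hb

/-- An involution of `SU_5(2)` whose products with conjugates have order at most three is a transvection. -/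
theorem eq_transvection_five {g : HU (hermStd 5 hF)} (hg : g * g = 1) (h1 : g ≠ 1)
    (h23 : ∀ s ∈ HSU (hermStd 5 hF), (g * (s * g * s⁻¹)) ^ 2 = 1 ∨ (g * (s * g * s⁻¹)) ^ 3 = 1) :
    ∃ (a : Fin 5 → F) (ha : B a a = 0), a ≠ 0 ∧ g = t hF ha := by
  obtain ⟨u, hu⟩ := exists_Q_ne hF hg h1
  refine ⟨N hF g u, Q_centre hF hg, fun e => one_ne_zero (α := F) (by rw [← hu, Q, e, map_zero]), ?_⟩
  by_contra hne
  obtain ⟨v, hv, huv⟩ := exists_second hF hg hu hne
  have hbad : ∃ s : HU (hermStd 5 hF), s ∈ HSU (hermStd 5 hF) ∧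
      (g * (s * g * s⁻¹)) ^ 2 ≠ 1 ∧ (g * (s * g * s⁻¹)) ^ 3 ≠ 1 := by
    by_cases h2 : g = t hF (Q_centre hF hg (u := u)) * t hF (Q_centre hF hg (u := v))
    · have hli : LinearIndependent F ![N hF g u, N hF g v] := by
        rw [LinearIndependent.pair_iff]
        intro c d e
        have e1 := congrArg (B u) e
        have e2 := congrArg (B v) e
        have hvu : Q hF g v u = 0 := by rw [← Q_symm hF hg u v, huv, map_zero]
        simp only [map_add, smul_right, map_zero] at e1 e2
        rw [show B u (N hF g u) = 1 from hu, show B u (N hF g v) = 0 from huv, mul_one, mul_zero, add_zero] at e1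
        rw [show B v (N hF g u) = 0 from hvu, show B v (N hF g v) = 1 from hv, mul_one, mul_zero, zero_add] at e2
        exact ⟨e1, e2⟩
      obtain ⟨b, hb, ea, ec⟩ := frame_line hF (Q_centre hF hg (u := u)) (Q_centre hF hg (u := v))
        (Q_range hF hg u v) hli
      obtain ⟨s, hs, hsix⟩ := order_five hF hb
      refine ⟨s, hs, hsix g (h2.trans (congrArg₂ (· * ·) ?_ ?_))⟩
      · exact t_congr hF _ _ one_ne_zero (by rw [one_smul, one_smul]; exact ea)
      · exact t_congr hF _ _ one_ne_zero (by rw [one_smul, one_smul]; exact ec)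
    · obtain ⟨z, hz, huz, hvz⟩ := exists_third hF hg hu hv huv h2
      exact bad_three hF hg hu hv hz huv huz hvz
  obtain ⟨s, hs, hn2, hn3'⟩ := hbad
  exact (h23 s hs).elim hn2 hn3'

end CfsgLib.ThreeTrans.RadicalAbelian.Five
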