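import Cfsg.Agent.Lib.ThreeTrans.Perp
import Cfsg.Prelude.Def_Transfer

set_option autoImplicit false

/-!
The two core of a group generated by a class of 3-transpositions is elementary abelian when any two
non-commuting members and the members commuting with one of them generate, the quotient by the two core
is perfect with trivial multiplier, and an odd number of pairwise commuting members multiply into the
two core (owner: helper8).
-/

namespace CfsgLib.ThreeTrans.RadicalAbelian

open Cfsg

variable {G : Type*} [Group G]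

/-- The translations of `d`: elements `t` of the two core with `d t` a member. -/
def gens (D : Set G) (d : G) : Set G := {t | t ∈ pCore 2 G ∧ d * t ∈ D}

/-- All translations. -/
def allGens (D : Set G) : Set G := {t | ∃ d ∈ D, t ∈ gens D d}

variable {D : Set G} (hD : IsThreeTranspositionClass D)
include hD

theorem sameV_translate {d t : G} (hd : d ∈ D) (ht : t ∈ gens D d) : SameV D d (d * t) :=
  sameV_of_mul_mem_pCore hD.1 hd ht.2 (by rw [mul_self_assoc hD.1 hd]; exact ht.1)

theorem commute_gens {d t f : G} (hd : d ∈ D) (ht : t ∈ gens D d) (hf : f ∈ D) (hc : Commute d f) :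
    Commute f t := by
  have h := ((sameV_translate hD hd ht).2 f hf).2 hc
  have h2 := hc.symm.mul_right h.symm
  rwa [mul_self_assoc hD.1 hd] at h2

theorem commute_closure {d z f : G} (hd : d ∈ D) (hz : z ∈ Subgroup.closure (gens D d)) (hf : f ∈ D)
    (hc : Commute d f) : Commute f z := by
  induction hz using Subgroup.closure_induction with
  | mem t ht => exact commute_gens hD hd ht hf hc
  | one => exact Commute.one_right f
  | mul p q _ _ hp hq => exact hp.mul_right hq
  | inv p _ hp => exact hp.inv_right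

theorem translate_mem {d v : G} (hd : d ∈ D) (hv : v ∈ pCore 2 G) : d⁻¹ * (v * d * v⁻¹) ∈ gens D d := by
  refine ⟨?_, by rw [mul_inv_cancel_left]; exact class_conj hD v d hd⟩
  have h := mul_mem ((inferInstance : (pCore 2 G).Normal).conj_mem v hv d⁻¹) (inv_mem hv)
  rwa [show d⁻¹ * v * d⁻¹⁻¹ * v⁻¹ = d⁻¹ * (v * d * v⁻¹) by group] at h

/-- The two core normalizes the subgroup of the translations of `d`. -/
theorem conj_gens {d t v : G} (hd : d ∈ D) (ht : t ∈ gens D d) (hv : v ∈ pCore 2 G) :
    v * t * v⁻¹ ∈ Subgroup.closure (gens D d) := by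
  have ha := translate_mem hD hd hv
  have hb : d⁻¹ * (v * (d * t) * v⁻¹) ∈ gens D d := by
    refine ⟨?_, by rw [mul_inv_cancel_left]; exact class_conj hD v _ ht.2⟩
    have h := mul_mem ha.1 ((inferInstance : (pCore 2 G).Normal).conj_mem t ht.1 v)
    rwa [show d⁻¹ * (v * d * v⁻¹) * (v * t * v⁻¹) = d⁻¹ * (v * (d * t) * v⁻¹) by group] at h
  rw [show v * t * v⁻¹ = (d⁻¹ * (v * d * v⁻¹))⁻¹ * (d⁻¹ * (v * (d * t) * v⁻¹)) by group]
  exact mul_mem (inv_mem (Subgroup.subset_closure ha)) (Subgroup.subset_closure hb)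

theorem gens_sq {d t : G} (hd : d ∈ D) (ht : t ∈ gens D d) : t * t = 1 := by
  have h := commute_gens hD hd ht hd (Commute.refl d)
  have h2 := mul_self hD.1 ht.2
  rwa [mul_assoc, ← mul_assoc t d, ← h.eq, mul_assoc d t t, mul_self_assoc hD.1 hd] at h2

/-- All translations commute. -/
theorem gens_comm (hZ : Subgroup.center G = ⊥)
    (hgen : ∀ d ∈ D, ∀ f ∈ D, ¬ Commute d f →
      Subgroup.closure ({y | y ∈ D ∧ Commute d y} ∪ {y | y ∈ D ∧ Commute f y}) = ⊤)
    {s t : G} (hs : s ∈ allGens D) (ht : t ∈ allGens D) : Commute t s := by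
  obtain ⟨f, hf, hs⟩ := hs
  obtain ⟨d, hd, ht⟩ := ht
  by_cases hc : Commute d f
  · have h1 := commute_gens hD hd ht hf hc
    have h2 := commute_gens hD hd ht hs.2 (((sameV_translate hD hf hs).2 d hd).2 hc.symm).symm
    have h3 := h1.symm.mul_right h2.symm
    rwa [mul_self_assoc hD.1 hf] at h3
  · have hzd : t * s * t⁻¹ * s⁻¹ ∈ Subgroup.closure (gens D d) := by
      rw [show t * s * t⁻¹ * s⁻¹ = t * (s * t * s⁻¹)⁻¹ by group]
      exact mul_mem (Subgroup.subset_closure ht) (inv_mem (conj_gens hD hd ht hs.1))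
    have hzf : t * s * t⁻¹ * s⁻¹ ∈ Subgroup.closure (gens D f) :=
      mul_mem (conj_gens hD hf hs ht.1) (inv_mem (Subgroup.subset_closure hs))
    have hz : ∀ x : G, Commute x (t * s * t⁻¹ * s⁻¹) := by
      intro x
      have hx : x ∈ Subgroup.closure ({y | y ∈ D ∧ Commute d y} ∪ {y | y ∈ D ∧ Commute f y}) :=
        hgen d hd f hf hc ▸ Subgroup.mem_top x
      induction hx using Subgroup.closure_induction with
      | mem y hy =>
        rcases hy with hy | hy
        · exact commute_closure hD hd hzd hy.1 hy.2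
        · exact commute_closure hD hf hzf hy.1 hy.2
      | one => exact Commute.one_left _
      | mul p q _ _ hp hq => exact hp.mul_left hq
      | inv p _ hp => exact hp.inv_left
    have h0 : t * s * t⁻¹ * s⁻¹ ∈ Subgroup.center G := Subgroup.mem_center_iff.2 fun x => (hz x).eq
    rw [hZ, Subgroup.mem_bot] at h0
    exact commutatorElement_eq_one_iff_mul_comm.1 (by rw [commutatorElement_def]; exact h0)

theorem allGens_conj {t : G} (ht : t ∈ allGens D) (g : G) : g * t * g⁻¹ ∈ allGens D := by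
  obtain ⟨d, hd, ht1, ht2⟩ := ht
  refine ⟨g * d * g⁻¹, class_conj hD g d hd, (inferInstance : (pCore 2 G).Normal).conj_mem t ht1 g, ?_⟩
  rw [show g * d * g⁻¹ * (g * t * g⁻¹) = g * (d * t) * g⁻¹ by group]
  exact class_conj hD g _ ht2

theorem closure_allGens_normal : (Subgroup.closure (allGens D)).Normal := by
  refine ⟨fun n hn g => ?_⟩
  induction hn using Subgroup.closure_induction with
  | mem t ht => exact Subgroup.subset_closure (allGens_conj hD ht g)
  | one => simp
  | mul p q _ _ hp hq =>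
    rw [show g * (p * q) * g⁻¹ = g * p * g⁻¹ * (g * q * g⁻¹) by group]; exact mul_mem hp hq
  | inv p _ hp => rw [show g * p⁻¹ * g⁻¹ = (g * p * g⁻¹)⁻¹ by group]; exact inv_mem hp

end CfsgLib.ThreeTrans.RadicalAbelian

namespace CfsgLib.ThreeTrans.RadicalAbelian

open Cfsg
open scoped commutatorElement

universe u

variable {G : Type u} [Group G] [Finite G] {D : Set G}

omit [Finite G] in
theorem map_commute {z : G} {S : Set G} (h : ∀ t ∈ S, Commute z t) {n : G} (hn : n ∈ Subgroup.closure S) :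
    Commute z n := by
  induction hn using Subgroup.closure_induction with
  | mem t ht => exact h t ht
  | one => exact Commute.one_right z
  | mul p q _ _ hp hq => exact hp.mul_right hq
  | inv p _ hp => exact hp.inv_right

theorem isElementaryAbelian_pCore (hD : IsThreeTranspositionClass D) (hZ : Subgroup.center G = ⊥)
    (hgen : ∀ d ∈ D, ∀ f ∈ D, ¬ Commute d f →
      Subgroup.closure ({y | y ∈ D ∧ Commute d y} ∪ {y | y ∈ D ∧ Commute f y}) = ⊤)
    (hperf : commutator (G ⧸ pCore 2 G) = ⊤)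
    (hmult : ∀ (Γ : Type u) [Group Γ] [Finite Γ] (π : Γ →* G ⧸ pCore 2 G), Function.Surjective π →
      π.ker ≤ Subgroup.center Γ → π.ker ≤ commutator Γ → π.ker = ⊥)
    (l : List G) (hl : ∀ x ∈ l, x ∈ D) (hlc : ∀ x ∈ l, ∀ y ∈ l, Commute x y) (hodd : Odd l.length)
    (hprod : l.prod ∈ pCore 2 G) : IsElementaryAbelian 2 (pCore 2 G) := by
  set V := pCore 2 G with hV
  set N := Subgroup.closure (allGens D) with hN
  haveI hNn : N.Normal := closure_allGens_normal hD
  have hNcomm : ∀ a ∈ N, ∀ b ∈ N, Commute a b := fun a ha b hb =>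
    map_commute (fun t ht => (map_commute (fun s hs => gens_comm hD hZ hgen hs ht) ha).symm) hb
  have hNV : N ≤ V := (Subgroup.closure_le _).2 fun t ⟨d, _, ht⟩ => ht.1
  -- `V / N` is central
  let π : G →* G ⧸ N := QuotientGroup.mk' N
  have hπd : ∀ d ∈ D, ∀ v ∈ V, Commute (π d) (π v) := by
    intro d hd v hv
    have h1 : π (d⁻¹ * (v * d * v⁻¹)) = 1 :=
      (QuotientGroup.eq_one_iff _).2 (Subgroup.subset_closure ⟨d, hd, translate_mem hD hd hv⟩)
    simp only [map_mul, map_inv, inv_mul_eq_one] at h1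
    exact (mul_inv_eq_iff_eq_mul.1 h1.symm).symm
  have hπV : ∀ g : G, ∀ v ∈ V, Commute (π g) (π v) := by
    intro g v hv
    have hg : g ∈ Subgroup.closure D := hD.2.2 ▸ Subgroup.mem_top g
    induction hg using Subgroup.closure_induction with
    | mem d hd => exact hπd d hd v hv
    | one => rw [map_one]; exact Commute.one_left _
    | mul p q _ _ hp hq => rw [map_mul]; exact hp.mul_left hq
    | inv p _ hp => rw [map_inv]; exact hp.inv_left
  -- the derived group of `G / N` meets `V / N` trivially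
  let ρ : G ⧸ N →* G ⧸ V := QuotientGroup.map N V (MonoidHom.id G) (by simpa using hNV)
  have hρ : ∀ g : G, ρ (π g) = QuotientGroup.mk' V g := fun g => rfl
  have hρs : Function.Surjective ρ := by
    intro x
    obtain ⟨g, rfl⟩ := QuotientGroup.mk'_surjective V x
    exact ⟨π g, hρ g⟩
  have hker : ρ.ker ≤ Subgroup.center (G ⧸ N) := by
    intro k hk
    obtain ⟨v, rfl⟩ := QuotientGroup.mk'_surjective N k
    have hv : v ∈ V := (QuotientGroup.eq_one_iff v).1 ((hρ v).symm.trans hk)
    refine Subgroup.mem_center_iff.2 fun y => ?_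
    obtain ⟨g, rfl⟩ := QuotientGroup.mk'_surjective N y
    exact (hπV g v hv).eq
  set C := commutator (G ⧸ N) with hC
  have hCimg : C.map ρ = ⊤ := by
    rw [hC, commutator_def, Subgroup.map_commutator, Subgroup.map_top_of_surjective _ hρs, ← commutator_def, hperf]
  have hdec : ∀ y : G ⧸ N, ∃ c ∈ C, ∃ k ∈ ρ.ker, y = c * k := by
    intro y
    obtain ⟨c, hc, hcy⟩ : ρ y ∈ C.map ρ := hCimg ▸ Subgroup.mem_top _
    exact ⟨c, hc, c⁻¹ * y, by rw [MonoidHom.mem_ker, map_mul, map_inv, hcy, inv_mul_cancel], by rw [mul_inv_cancel_left]⟩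
  have hCperf : commutator C = ⊤ := by
    rw [eq_top_iff]
    have hle : C ≤ (commutator C).map C.subtype := by
      show ⁅(⊤ : Subgroup (G ⧸ N)), ⊤⁆ ≤ _
      rw [Subgroup.commutator_le]
      intro a _ b _
      obtain ⟨ca, hca, ka, hka, rfl⟩ := hdec a
      obtain ⟨cb, hcb, kb, hkb, rfl⟩ := hdec b
      have za := Subgroup.mem_center_iff.1 (hker hka)
      have zb := Subgroup.mem_center_iff.1 (hker hkb)
      have e : ⁅ca * ka, cb * kb⁆ = ⁅ca, cb⁆ := by
        simp only [commutatorElement_def, mul_inv_rev]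
        calc ca * ka * (cb * kb) * (ka⁻¹ * ca⁻¹) * (kb⁻¹ * cb⁻¹)
            = ca * (ka * (cb * kb)) * ka⁻¹ * ca⁻¹ * kb⁻¹ * cb⁻¹ := by group
          _ = ca * (cb * kb * ka) * ka⁻¹ * ca⁻¹ * kb⁻¹ * cb⁻¹ := by rw [za]
          _ = ca * cb * (kb * ca⁻¹) * kb⁻¹ * cb⁻¹ := by group
          _ = ca * cb * (ca⁻¹ * kb) * kb⁻¹ * cb⁻¹ := by rw [zb]
          _ = ca * cb * ca⁻¹ * cb⁻¹ := by group
      rw [e]
      refine ⟨⁅(⟨ca, hca⟩ : C), ⟨cb, hcb⟩⁆, ?_, rfl⟩
      rw [commutator_def]
      exact Subgroup.commutator_mem_commutator trivial trivial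
    rintro ⟨y, hy⟩ -
    obtain ⟨z, hz, hzy⟩ := hle hy
    have e : z = ⟨y, hy⟩ := Subtype.ext hzy
    rwa [e] at hz
  have hinj : ∀ y ∈ C, ρ y = 1 → y = 1 := by
    intro y hy hy1
    have hsurj : Function.Surjective (ρ.comp C.subtype) := by
      intro x
      obtain ⟨c, hc, hcx⟩ : x ∈ C.map ρ := hCimg ▸ Subgroup.mem_top x
      exact ⟨⟨c, hc⟩, hcx⟩
    have h := hmult C (ρ.comp C.subtype) hsurj (fun k hk => Subgroup.mem_center_iff.2 fun y =>
      Subtype.ext (Subgroup.mem_center_iff.1 (hker (x := (k : G ⧸ N)) hk) y)) (by rw [hCperf]; exact le_top)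
    have h' : (⟨y, hy⟩ : C) ∈ (ρ.comp C.subtype).ker := hy1
    rw [h, Subgroup.mem_bot] at h'
    exact congrArg Subtype.val h'
  -- `V` is generated by `N` and the product
  obtain ⟨d₀, hd₀⟩ : ∃ d, d ∈ D := by
    obtain ⟨-, ⟨d, -, hDeq⟩, -⟩ := hD
    exact ⟨d, hDeq ▸ mem_conjugatesOf_self⟩
  have hAb : ∀ d ∈ D, Abelianization.of (π d) = Abelianization.of (π d₀) := by
    intro d hd
    obtain ⟨g, rfl⟩ := class_trans hD hd₀ hd
    simp only [map_mul, map_inv]
    rw [mul_comm (Abelianization.of (π g)), mul_inv_cancel_right]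
  set δ := Abelianization.of (π d₀) with hδ
  have hδ2 : δ * δ = 1 := by rw [hδ, ← map_mul, ← map_mul, mul_self hD.1 hd₀, map_one, map_one]
  have hab2 : ∀ g : G, Abelianization.of (π g) = 1 ∨ Abelianization.of (π g) = δ := by
    intro g
    have hg : g ∈ Subgroup.closure D := hD.2.2 ▸ Subgroup.mem_top g
    induction hg using Subgroup.closure_induction with
    | mem d hd => exact Or.inr (hAb d hd)
    | one => left; rw [map_one, map_one]
    | mul p q _ _ hp hq =>
      rw [map_mul, map_mul]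
      rcases hp with hp | hp <;> rcases hq with hq | hq <;> rw [hp, hq]
      · exact Or.inl (one_mul 1)
      · exact Or.inr (one_mul δ)
      · exact Or.inr (mul_one δ)
      · exact Or.inl hδ2
    | inv p _ hp =>
      rw [map_inv, map_inv]
      rcases hp with hp | hp <;> rw [hp]
      · exact Or.inl inv_one
      · exact Or.inr (inv_eq_of_mul_eq_one_right hδ2)
  have hlprod : ∀ m : List G, (∀ x ∈ m, x ∈ D) → Abelianization.of (π m.prod) = δ ^ m.length := by
    intro m hm
    induction m with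
    | nil => simp
    | cons a m ih =>
      rw [List.prod_cons, map_mul, map_mul, hAb a (hm a (List.mem_cons_self ..)),
        ih fun x hx => hm x (List.mem_cons_of_mem _ hx), List.length_cons, pow_succ']
  have hVgen : ∀ v ∈ V, v ∈ N ∨ v * l.prod⁻¹ ∈ N := by
    intro v hv
    have key : ∀ w ∈ V, Abelianization.of (π w) = 1 → w ∈ N := by
      intro w hw hw1
      have hwC : π w ∈ C := by
        have : π w ∈ (Abelianization.of (G := G ⧸ N)).ker := hw1
        rwa [Abelianization.ker_of] at this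
      exact (QuotientGroup.eq_one_iff w).1 (hinj _ hwC (show ρ (π w) = 1 from (hρ w).trans ((QuotientGroup.eq_one_iff w).2 hw)))
    rcases hab2 v with h | h
    · exact Or.inl (key v hv h)
    · refine Or.inr (key _ (mul_mem hv (inv_mem hprod)) ?_)
      rw [map_mul, map_mul, map_inv, map_inv, h, hlprod l hl]
      obtain ⟨k, hk⟩ := hodd
      rw [hk, pow_succ, pow_mul, pow_two, hδ2, one_pow, one_mul, mul_inv_cancel]
  -- the product centralizes `N`
  have hπN : ∀ n ∈ N, Commute l.prod n := by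
    intro n hn
    refine map_commute (fun t ht => ?_) hn
    obtain ⟨x, hx, ht⟩ := ht
    obtain ⟨a, m, rfl⟩ : ∃ a m, l = a :: m := by
      cases l with
      | nil => simp at hodd
      | cons a m => exact ⟨a, m, rfl⟩
    obtain ⟨g, rfl⟩ := class_trans hD (hl a (List.mem_cons_self ..)) hx
    have ht' : g⁻¹ * t * g ∈ gens D a := by
      refine ⟨?_, ?_⟩
      · have := (inferInstance : (pCore 2 G).Normal).conj_mem t ht.1 g⁻¹
        rwa [inv_inv] at this
      · have := class_conj hD g⁻¹ _ ht.2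
        rwa [show g⁻¹ * (g * a * g⁻¹ * t) * g⁻¹⁻¹ = a * (g⁻¹ * t * g) by group] at this
    set p := (a :: m).prod with hp
    have h1 : Commute p (g⁻¹ * t * g) :=
      (Commute.list_prod_right _ _ fun y hy => (commute_gens hD (hl a (List.mem_cons_self ..)) ht' (hl y hy)
        (hlc a (List.mem_cons_self ..) y hy)).symm).symm
    have hn' : p⁻¹ * (g * p * g⁻¹) ∈ N := by
      rw [← QuotientGroup.eq_one_iff (N := N)]
      show π (p⁻¹ * (g * p * g⁻¹)) = 1
      simp only [map_mul, map_inv]
      rw [(hπV g p hprod).eq, mul_inv_cancel_right, inv_mul_cancel]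
    have h2 : Commute (g * p * g⁻¹) t := by
      have := (commute_conj_iff (g := g)).2 h1
      rwa [show g * (g⁻¹ * t * g) * g⁻¹ = t by group] at this
    have h3 := h2.mul_left ((hNcomm _ hn' t (Subgroup.subset_closure ⟨_, hx, ht⟩)).inv_left)
    rwa [show g * p * g⁻¹ * (p⁻¹ * (g * p * g⁻¹))⁻¹ = p by group] at h3
  have hVcomm : ∀ a ∈ V, ∀ b ∈ V, Commute a b := by
    have hs : ∀ a ∈ V, ∃ n ∈ N, a = n ∨ a = n * l.prod := by
      intro a ha
      rcases hVgen a ha with h | h
      · exact ⟨a, h, Or.inl rfl⟩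
      · exact ⟨_, h, Or.inr (by group)⟩
    intro a ha b hb
    obtain ⟨n, hn, rfl | rfl⟩ := hs a ha <;> obtain ⟨m, hm, rfl | rfl⟩ := hs b hb
    · exact hNcomm _ hn _ hm
    · exact (hNcomm _ hn _ hm).mul_right (hπN _ hn).symm
    · exact (hNcomm _ hn _ hm).mul_left (hπN _ hm)
    · exact ((hNcomm _ hn _ hm).mul_left (hπN _ hm)).mul_right ((hπN _ hn).symm.mul_left (Commute.refl _))
  refine ⟨⟨⟨fun a b => Subtype.ext (hVcomm _ a.2 _ b.2).eq⟩⟩, fun v hv => ?_⟩
  have hc : v * v ∈ Subgroup.center G := by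
    refine central_of_commute_all hD.2.2 fun d hd => ?_
    have ha := translate_mem hD hd hv
    set a := d⁻¹ * (v * d * v⁻¹) with hadef
    have e1 : v * d * v⁻¹ = d * a := by rw [hadef, mul_inv_cancel_left]
    have e2 : v * a * v⁻¹ = a := by rw [(hVcomm v hv a ha.1).eq, mul_inv_cancel_right]
    have e3 : v * v * d * (v * v)⁻¹ = d := by
      calc v * v * d * (v * v)⁻¹ = v * (v * d * v⁻¹) * v⁻¹ := by group
        _ = v * (d * a) * v⁻¹ := by rw [e1]
        _ = v * d * v⁻¹ * (v * a * v⁻¹) := by group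
        _ = d := by rw [e1, e2, mul_assoc, gens_sq hD hd ha, mul_one]
    exact mul_inv_eq_iff_eq_mul.1 e3
  rw [hZ, Subgroup.mem_bot] at hc
  rw [pow_two, hc]

end CfsgLib.ThreeTrans.RadicalAbelian
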