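import Cfsg.Agent.Lib.ThreeTrans.UniqueClass.Base
import Cfsg.Agent.Lib.ThreeTrans.RankThree
import Cfsg.Agent.S5361

set_option autoImplicit false

/-!
When the quotient by the two core is simple, any two non-commuting members and the members commuting with
one of them generate the whole group (owner: helper8).
-/

namespace CfsgLib.ThreeTrans.RadicalAbelian

open Cfsg CfsgLib.ThreeTrans.UniqueClass

variable {G : Type*} [Group G] {D : Set G}

theorem not_mem_of_nontrivial (hD : IsThreeTranspositionClass D) [Nontrivial (G ⧸ pCore 2 G)] {d : G} (hd : d ∈ D) :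
    d ∉ pCore 2 G := by
  intro hdV
  have htop : (pCore 2 G) = ⊤ := by
    rw [eq_top_iff, ← hD.2.2, Subgroup.closure_le]
    intro x hx
    obtain ⟨g, rfl⟩ := class_trans hD hd hx
    exact (inferInstance : (pCore 2 G).Normal).conj_mem d hdV g
  obtain ⟨x, hx⟩ := exists_ne (1 : G ⧸ pCore 2 G)
  obtain ⟨y, rfl⟩ := QuotientGroup.mk'_surjective (pCore 2 G) x
  exact hx ((QuotientGroup.eq_one_iff y).2 (by rw [htop]; exact Subgroup.mem_top y))

theorem image_class (hD : IsThreeTranspositionClass D) [Nontrivial (G ⧸ pCore 2 G)] :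
    IsThreeTranspositionClass (img '' D) := by
  refine ⟨⟨?_, ?_⟩, ?_, ?_⟩
  · rintro _ ⟨d, hd, rfl⟩
    refine orderOf_eq_prime (by rw [← map_pow, pow_two, mul_self hD.1 hd, map_one]) fun h => ?_
    exact not_mem_of_nontrivial hD hd (img_eq_one_iff.1 h)
  · rintro _ ⟨d, hd, rfl⟩ _ ⟨e, he, rfl⟩
    exact (hD.1.2 d hd e he).imp (fun h => by rw [← map_mul, ← map_pow, h, map_one])
      (fun h => by rw [← map_mul, ← map_pow, h, map_one])
  · obtain ⟨d₀, hd₀⟩ := class_nonempty hD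
    refine ⟨img d₀, ⟨d₀, hd₀, rfl⟩, ?_⟩
    ext x
    constructor
    · rintro ⟨d, hd, rfl⟩
      obtain ⟨g, rfl⟩ := class_trans hD hd₀ hd
      show IsConj _ _
      rw [isConj_iff]
      exact ⟨img g, by rw [map_mul, map_mul, map_inv]⟩
    · intro hx
      have hx' : IsConj (img d₀) x := hx
      rw [isConj_iff] at hx'
      obtain ⟨c, rfl⟩ := hx'
      obtain ⟨g, rfl⟩ := QuotientGroup.mk'_surjective (pCore 2 G) c
      exact ⟨g * d₀ * g⁻¹, class_conj hD g d₀ hd₀, by rw [map_mul, map_mul, map_inv]⟩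
  · rw [← MonoidHom.map_closure, hD.2.2, Subgroup.map_top_of_surjective _ (QuotientGroup.mk'_surjective _)]

theorem setting [Finite G] (hD : IsThreeTranspositionClass D) (hs : IsSimpleGroup (G ⧸ pCore 2 G))
    (hperf : commutator (G ⧸ pCore 2 G) = ⊤)
    (hw : ∃ a ∈ img '' D, ∃ b ∈ img '' D, a ≠ b ∧ Commute a b) : RankThree.Setting (img '' D) := by
  haveI := hs
  haveI : Nontrivial (G ⧸ pCore 2 G) := hs.toNontrivial
  have hQ := image_class hD
  have hZ : Subgroup.center (G ⧸ pCore 2 G) = ⊥ := by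
    refine ((inferInstance : (Subgroup.center (G ⧸ pCore 2 G)).Normal).eq_bot_or_eq_top).resolve_right fun h => ?_
    have h0 : commutator (G ⧸ pCore 2 G) = ⊥ := by
      rw [commutator_def, Subgroup.commutator_eq_bot_iff_le_centralizer]
      intro x _
      rw [Subgroup.mem_centralizer_iff]
      exact fun y _ => Subgroup.mem_center_iff.1 (h ▸ Subgroup.mem_top x) y
    exact top_ne_bot (hperf.symm.trans h0)
  haveI : IsSimpleGroup ↥(commutator (G ⧸ pCore 2 G)) := by
    rw [hperf]; exact Subgroup.topEquiv.isSimpleGroup_congr.2 hs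
  exact ⟨hQ, let ⟨a, ha, b, hb, hab, _⟩ := hw; ⟨a, ha, b, hb, hab⟩, hw,
    (Cfsg.Agent.S5361.result hQ hZ hw).1.1 inferInstance,
    by rw [CfsgLib.Core.pCore_quotient_pCore]; exact bot_le⟩

theorem generate_of_simple [Finite G] (hD : IsThreeTranspositionClass D) (hs : IsSimpleGroup (G ⧸ pCore 2 G))
    (hperf : commutator (G ⧸ pCore 2 G) = ⊤)
    (hw : ∃ a ∈ img '' D, ∃ b ∈ img '' D, a ≠ b ∧ Commute a b) {d f : G} (hd : d ∈ D) (hf : f ∈ D)
    (hc : ¬ Commute d f) :
    Subgroup.closure ({y | y ∈ D ∧ Commute d y} ∪ {y | y ∈ D ∧ Commute f y}) = ⊤ := by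
  set U := Subgroup.closure ({y | y ∈ D ∧ Commute d y} ∪ {y | y ∈ D ∧ Commute f y}) with hU
  have S := setting hD hs hperf hw
  have hcQ : ¬ Commute (img d) (img f) := fun h => hc (commute_of_img hD hd hf h)
  have hmap : U.map img = ⊤ := by
    rw [eq_top_iff, ← S.max ⟨d, hd, rfl⟩ ⟨f, hf, rfl⟩ hcQ, Subgroup.closure_le]
    rintro y (⟨⟨y, hy, rfl⟩, hyc⟩ | rfl)
    · exact ⟨y, Subgroup.subset_closure (Or.inl ⟨hy, commute_of_img hD hd hy hyc⟩), rfl⟩
    · exact ⟨f, Subgroup.subset_closure (Or.inr ⟨hf, Commute.refl f⟩), rfl⟩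
  rw [eq_top_iff, ← hD.2.2, Subgroup.closure_le]
  intro x hx
  obtain ⟨g, rfl⟩ := class_trans hD hd hx
  obtain ⟨u, hu, hug⟩ : img g ∈ U.map img := by rw [hmap]; exact Subgroup.mem_top _
  have hy : u⁻¹ * (g * d * g⁻¹) * u ∈ D := by
    have := class_conj hD u⁻¹ _ (class_conj hD g d hd)
    rwa [inv_inv] at this
  have hi : img (u⁻¹ * (g * d * g⁻¹) * u) = img d := by
    simp only [map_mul, map_inv, hug]; group
  have hyU : u⁻¹ * (g * d * g⁻¹) * u ∈ U :=
    Subgroup.subset_closure (Or.inl ⟨hy, commute_of_img hD hd hy (hi ▸ Commute.refl _)⟩)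
  have := mul_mem (mul_mem hu hyU) (inv_mem hu)
  rwa [show u * (u⁻¹ * (g * d * g⁻¹) * u) * u⁻¹ = g * d * g⁻¹ by group] at this

end CfsgLib.ThreeTrans.RadicalAbelian
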