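import Cfsg.Agent.Lib.ThreeTrans.UnitaryTransTwo
import Cfsg.Agent.Lib.Classical.Unitary.Structure

set_option autoImplicit false

/-!
The only class of 3-transpositions of a special unitary group of dimension at least 7 over the field
with four elements consists of the transvections (owner: helper8).

An involution `g` with `g - 1` of rank at least two has a conjugate `h` with `g h` of order 6.
-/

namespace CfsgLib.ThreeTrans.RadicalAbelian

open CfsgLib.Classical CfsgLib.Classical.Herm CfsgLib.ThreeTrans.UnitaryTransTwo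

/-- Products of two pairs of involutions, commuting across the pairs, with product of order six. -/
theorem no_six {H : Type*} [Group H] {x x' y y' : H} (hx : x * x = 1) (hx' : x' * x' = 1) (hy : y * y = 1)
    (hy' : y' * y' = 1) (hxy : Commute x y) (hxy' : Commute x y') (hx'y : Commute x' y)
    (hx'y' : Commute x' y') (hyy : Commute y y') (hne : y' ≠ y)
    (hn : ¬ Commute x' x) (h23 : (x' * x) ^ 2 = 1 ∨ (x' * x) ^ 3 = 1) :
    (x' * x * (y' * y)) ^ 2 ≠ 1 ∧ (x' * x * (y' * y)) ^ 3 ≠ 1 := by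
  have i : x⁻¹ = x := inv_eq_of_mul_eq_one_right hx
  have i' : x'⁻¹ = x' := inv_eq_of_mul_eq_one_right hx'
  have hA : (x' * x) ^ 2 ≠ 1 := by
    intro h
    apply hn
    show x' * x = x * x'
    rw [pow_two] at h
    rw [eq_inv_of_mul_eq_one_left h, mul_inv_rev, i, i']
  have hA3 := h23.resolve_left hA
  have hc : Commute (x' * x) (y' * y) := (hx'y'.mul_left hxy').mul_right (hx'y.mul_left hxy)
  have hB : (y' * y) ^ 2 = 1 := by rw [hyy.symm.mul_pow, pow_two, pow_two, hy', hy, one_mul]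
  refine ⟨?_, ?_⟩
  · rw [hc.mul_pow, hB, mul_one]; exact hA
  · rw [hc.mul_pow, hA3, one_mul, pow_succ, hB, one_mul]
    intro h
    exact hne (by rw [eq_inv_of_mul_eq_one_left h, inv_eq_of_mul_eq_one_right hy])

variable {F : Type} [Field F] [Fintype F] {n : ℕ} (hF : Fintype.card F = 2 ^ 2)

local notation "B" => hermStd n hF

/-- The action of an isometry. -/
abbrev ap (g : HU (hermStd n hF)) (x : Fin n → F) : Fin n → F :=
  (g : (Fin n → F) ≃ₗ[F] (Fin n → F)) x

/-- The displacement. -/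
def N (g : HU (hermStd n hF)) (x : Fin n → F) : Fin n → F := ap hF g x + x

/-- The form of the displacement. -/
noncomputable def Q (g : HU (hermStd n hF)) (x y : Fin n → F) : F := B x (N hF g y)

include hF

theorem add_self_zero (x : Fin n → F) : x + x = 0 := by
  funext i
  show x i + x i = 0
  rw [← two_mul, two_zero hF, zero_mul]

theorem fadd (a : F) : a + a = 0 := by rw [← two_mul, two_zero hF, zero_mul]

theorem fone {a : F} (ha : a ≠ 0) (hs : powHom hF a = a) : a = 1 :=
  (skew_cases hF (c := a) (by rw [hs, fadd hF])).resolve_left ha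

theorem ap_mul (g k : HU (hermStd n hF)) (x : Fin n → F) : ap hF (g * k) x = ap hF g (ap hF k x) := rfl

theorem ap_eq_add (g : HU (hermStd n hF)) (x : Fin n → F) : ap hF g x = x + N hF g x := by
  rw [N, add_comm (ap hF g x), ← add_assoc, add_self_zero hF, zero_add]

theorem ext_ap {g k : HU (hermStd n hF)} (h : ∀ x, ap hF g x = ap hF k x) : g = k :=
  Subtype.ext (LinearEquiv.ext h)

theorem t_comm {a b : Fin n → F} (ha : B a a = 0) (hb : B b b = 0) (h : B a b = 0) :
    Commute (t hF ha) (t hF hb) := by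
  have e := t_conj hF (t hF ha) hb
  have hfix : ap hF (t hF ha) b = (1 : F) • b := by rw [ap, t_apply, h, zero_smul, add_zero, one_smul]
  rw [t_congr hF hb _ one_ne_zero hfix] at e
  exact mul_inv_eq_iff_eq_mul.1 e

theorem t_not_comm {a b : Fin n → F} (ha : B a a = 0) (hb : B b b = 0) (h : B a b ≠ 0) (hb0 : a ≠ 0) :
    ¬ Commute (t hF ha) (t hF hb) := by
  intro hc
  have e := congrArg (fun k => ap hF k b) hc.eq
  simp only [ap_mul, ap, t_apply, hb, zero_smul, add_zero, map_add, map_smul, smul_eq_mul, mul_zero,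
    zero_mul] at e
  rw [smul_add] at e
  have h2 : (B a b * B b a) • b = 0 := by
    rw [← smul_smul]
    simpa [add_assoc] using e
  rcases smul_eq_zero.1 h2 with h3 | h3
  · rcases mul_eq_zero.1 h3 with h4 | h4
    · exact h h4
    · exact h ((hermStd_isHerm hF).eq_zero_symm h4)
  · exact h (by rw [h3, map_zero])

theorem t_ne {a b : Fin n → F} (ha : B a a = 0) (hb : B b b = 0) {y : Fin n → F} (hay : B a y = 0)
    (hby : B b y ≠ 0) (hb0 : b ≠ 0) : t hF ha ≠ t hF hb := by
  intro e
  have e2 := congrArg (fun k => ap hF k y) e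
  simp only [ap, t_apply, hay, zero_smul, add_zero, left_eq_add, smul_eq_zero] at e2
  exact e2.elim hby hb0

variable {g : HU (hermStd n hF)} (hg : g * g = 1)
include hg

theorem ap_ap (x : Fin n → F) : ap hF g (ap hF g x) = x := by
  rw [← ap_mul hF, hg]; rfl

theorem adjoint (x y : Fin n → F) : B (ap hF g x) y = B x (ap hF g y) := by
  conv_rhs => rw [← HU.map_eq g x, show (g : (Fin n → F) ≃ₗ[F] (Fin n → F)) (ap hF g y) = y from ap_ap hF hg y]

theorem Q_left (x y : Fin n → F) : B (N hF g x) y = Q hF g x y := by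
  simp only [Q, N, map_add, LinearMap.add_apply, adjoint hF hg]

theorem Q_symm (x y : Fin n → F) : powHom hF (Q hF g x y) = Q hF g y x := by
  rw [Q, (hermStd_isHerm hF).symm, Q_left hF hg]

theorem Q_range (x y : Fin n → F) : B (N hF g x) (N hF g y) = 0 := by
  rw [Q_left hF hg, Q]
  simp only [N, ap, map_add]
  rw [show (g : (Fin n → F) ≃ₗ[F] (Fin n → F)) ((g : (Fin n → F) ≃ₗ[F] (Fin n → F)) y) = y from ap_ap hF hg y]
  linear_combination (B x ((g : (Fin n → F) ≃ₗ[F] (Fin n → F)) y) + B x y) * two_zero hF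

theorem N_fix (x : Fin n → F) : ap hF g (N hF g x) = N hF g x := by
  show ap hF g (ap hF g x + x) = _
  rw [ap, map_add, show (g : (Fin n → F) ≃ₗ[F] (Fin n → F)) (ap hF g x) = x from ap_ap hF hg x]
  exact add_comm _ _

theorem Q_add_left (x y z : Fin n → F) : Q hF g (x + y) z = Q hF g x z + Q hF g y z := add_left _ _ _

theorem Q_add_right (x y z : Fin n → F) : Q hF g x (y + z) = Q hF g x y + Q hF g x z := by
  rw [← Q_left hF hg, ← Q_left hF hg, ← Q_left hF hg, map_add]

theorem Q_smul_left (c : F) (x z : Fin n → F) : Q hF g (c • x) z = powHom hF c * Q hF g x z := smul_left _ _ _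

theorem Q_smul_right (c : F) (x z : Fin n → F) : Q hF g x (c • z) = c * Q hF g x z := by
  rw [← Q_left hF hg, ← Q_left hF hg, smul_right]

theorem Q_self_one {x : Fin n → F} (hx : Q hF g x x ≠ 0) : Q hF g x x = 1 :=
  fone hF hx (Q_symm hF hg x x)

theorem exists_Q_ne (h1 : g ≠ 1) : ∃ x, Q hF g x x = 1 := by
  by_contra hc
  push Not at hc
  apply h1
  have h0 : ∀ x, Q hF g x x = 0 := fun x => by
    by_contra h; exact hc x (Q_self_one hF hg h)
  have hB : ∀ x y, Q hF g x y = 0 := by
    intro x y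
    by_contra hxy
    obtain ⟨c, hc'⟩ := (powHom_isInvol hF).exists_trace_eq (μ := (1 : F)) (map_one _)
    have e := h0 (x + (c / Q hF g x y) • y)
    rw [Q_add_left hF hg, Q_add_right hF hg, Q_add_right hF hg, Q_smul_left hF hg, Q_smul_left hF hg,
      Q_smul_right hF hg, Q_smul_right hF hg, h0, h0, ← Q_symm hF hg x y, ← map_mul,
      div_mul_cancel₀ _ hxy] at e
    simp only [mul_zero, add_zero, zero_add] at e
    rw [hc'] at e
    exact one_ne_zero e
  refine ext_ap hF fun x => ?_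
  rw [ap_eq_add hF]
  have : N hF g x = 0 := (hermStd_isHerm hF).nondeg _ fun y => by rw [Q_left hF hg, hB]
  rw [this, add_zero]
  rfl

theorem Q_centre {u : Fin n → F} : B (N hF g u) (N hF g u) = 0 := Q_range hF hg u u

/-- Removing one transvection. -/
theorem split_one {u : Fin n → F} (hu : Q hF g u u = 1) :
    ∃ k : HU (hermStd n hF), k * k = 1 ∧ g = t hF (Q_centre hF hg (u := u)) * k ∧
      ∀ x, N hF k x = N hF g x + Q hF g u x • N hF g u := by
  set a := N hF g u with ha
  have haa := Q_centre hF hg (u := u)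
  have hc : Commute g (t hF haa) := by
    have e := t_conj hF g haa
    rw [t_congr hF haa _ one_ne_zero
      (show (g : (Fin n → F) ≃ₗ[F] (Fin n → F)) a = (1 : F) • a by rw [one_smul]; exact N_fix hF hg u)] at e
    exact mul_inv_eq_iff_eq_mul.1 e
  refine ⟨t hF haa * g, ?_, by rw [← mul_assoc, t_mul_self, one_mul], fun x => ?_⟩
  · rw [mul_assoc, ← mul_assoc g, hc.eq, mul_assoc, hg, mul_one, t_mul_self]
  · show ap hF (t hF haa * g) x + x = _
    rw [ap_mul, ap, t_apply]
    have e : B a (ap hF g x) = Q hF g u x := by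
      rw [ap_eq_add hF, map_add, Q_range hF hg, add_zero, Q_left hF hg]
    rw [e, add_right_comm]; rfl

/-- A `Q`-orthogonal second vector. -/
theorem exists_second {u : Fin n → F} (hu : Q hF g u u = 1) (hne : g ≠ t hF (Q_centre hF hg (u := u))) :
    ∃ v, Q hF g v v = 1 ∧ Q hF g u v = 0 := by
  obtain ⟨k, hk, hgk, hN⟩ := split_one hF hg hu
  have hk1 : k ≠ 1 := fun h => hne (hgk.trans (by rw [h, mul_one]))
  obtain ⟨x, hx⟩ := exists_Q_ne hF hk hk1
  have hx' : Q hF g x x + Q hF g u x * Q hF g x u = 1 := by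
    rw [← hx]; unfold Q; rw [hN, map_add, smul_right]; rfl
  refine ⟨x + Q hF g u x • u, ?_, ?_⟩
  · rw [Q_add_left hF hg, Q_add_right hF hg, Q_add_right hF hg, Q_smul_left hF hg, Q_smul_left hF hg,
      Q_smul_right hF hg, Q_smul_right hF hg, hu, Q_symm hF hg u x]
    linear_combination hx' + (Q hF g x u * Q hF g u x) * two_zero hF
  · rw [Q_add_right hF hg, Q_smul_right hF hg, hu, mul_one, fadd hF]

/-- Three mutually orthogonal vectors, or a product of two transvections. -/
theorem exists_third {u v : Fin n → F} (hu : Q hF g u u = 1) (hv : Q hF g v v = 1) (huv : Q hF g u v = 0)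
    (hne : g ≠ t hF (Q_centre hF hg (u := u)) * t hF (Q_centre hF hg (u := v))) :
    ∃ z, Q hF g z z = 1 ∧ Q hF g u z = 0 ∧ Q hF g v z = 0 := by
  obtain ⟨k, hk, hgk, hN⟩ := split_one hF hg hu
  have hNv : N hF k v = N hF g v := by rw [hN, huv, zero_smul, add_zero]
  have hkv : Q hF k v v = 1 := by unfold Q; rw [hNv]; exact hv
  have hkne : k ≠ t hF (Q_centre hF hk (u := v)) := by
    intro h
    apply hne
    conv_lhs => rw [hgk, h]
    congr 1
    exact t_congr hF (Q_centre hF hg (u := v)) _ one_ne_zero (by rw [hNv, one_smul])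
  obtain ⟨z, hz, hvz⟩ := exists_second hF hk hkv hkne
  have hQ : ∀ x y, Q hF k x y = Q hF g x y + Q hF g u y * Q hF g x u := fun x y => by
    unfold Q; rw [hN, map_add, smul_right]; rfl
  have hvu : Q hF g v u = 0 := by rw [← Q_symm hF hg u v, huv, map_zero]
  rw [hQ, hvu, mul_zero, add_zero] at hvz
  rw [hQ] at hz
  refine ⟨z + Q hF g u z • u, ?_, ?_, ?_⟩
  · rw [Q_add_left hF hg, Q_add_right hF hg, Q_add_right hF hg, Q_smul_left hF hg, Q_smul_left hF hg,
      Q_smul_right hF hg, Q_smul_right hF hg, hu, Q_symm hF hg u z]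
    linear_combination hz + (Q hF g z u * Q hF g u z) * two_zero hF
  · rw [Q_add_right hF hg, Q_smul_right hF hg, hu, mul_one, fadd hF]
  · rw [Q_add_right hF hg, Q_smul_right hF hg, hvu, mul_zero, add_zero, hvz]

/-- The case of rank at least three. -/
theorem bad_three {u₀ v₀ z : Fin n → F} (hu : Q hF g u₀ u₀ = 1) (hv : Q hF g v₀ v₀ = 1) (hz : Q hF g z z = 1)
    (huv : Q hF g u₀ v₀ = 0) (huz : Q hF g u₀ z = 0) (hvz : Q hF g v₀ z = 0) :
    ∃ s : HU (hermStd n hF), s ∈ HSU (hermStd n hF) ∧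
      (g * (s * g * s⁻¹)) ^ 2 ≠ 1 ∧ (g * (s * g * s⁻¹)) ^ 3 ≠ 1 := by
  have h := hermStd_isHerm (n := n) hF
  have σQ := Q_symm hF hg
  have hQN : ∀ x y, Q hF g x (N hF g y) = 0 := fun x y => by rw [← Q_left hF hg, Q_range hF hg]
  have hQN' : ∀ x y, Q hF g (N hF g x) y = 0 := fun x y => by rw [← σQ, hQN, map_zero]
  have hvu : Q hF g v₀ u₀ = 0 := by rw [← σQ, huv, map_zero]
  have hzu : Q hF g z u₀ = 0 := by rw [← σQ, huz, map_zero]
  have hzv : Q hF g z v₀ = 0 := by rw [← σQ, hvz, map_zero]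
  -- `w`
  set w₀ := v₀ + z with hw₀
  have hww : Q hF g w₀ w₀ = 0 := by
    rw [hw₀, Q_add_left hF hg, Q_add_right hF hg, Q_add_right hF hg, hv, hz, hvz, hzv]
    linear_combination two_zero hF
  have hvw : Q hF g v₀ w₀ = 1 := by rw [hw₀, Q_add_right hF hg, hv, hvz, add_zero]
  obtain ⟨c, hc⟩ := (powHom_isInvol hF).exists_trace_eq (μ := B w₀ w₀) (h.self_fixed w₀)
  set w := w₀ + c • N hF g v₀ with hw
  have hw0 : B w w = 0 := by
    rw [hw]
    simp only [map_add, LinearMap.add_apply, smul_left, smul_right, Q_range hF hg, Q_left hF hg]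
    rw [show B w₀ (N hF g v₀) = Q hF g w₀ v₀ from rfl, ← σQ v₀ w₀, hvw, map_one]
    linear_combination hc + B w₀ w₀ * two_zero hF
  have hQw : ∀ x, Q hF g x w = Q hF g x w₀ := fun x => by
    rw [hw, Q_add_right hF hg, Q_smul_right hF hg, hQN, mul_zero, add_zero]
  have hQww : Q hF g w w = 0 := by
    rw [hQw, hw, Q_add_left hF hg, Q_smul_left hF hg, hQN', hww, mul_zero, add_zero]
  -- `u`
  obtain ⟨c₁, hc₁⟩ := (powHom_isInvol hF).exists_trace_eq (μ := B u₀ u₀) (h.self_fixed u₀)
  set u := u₀ + c₁ • N hF g u₀ + B w u₀ • N hF g v₀ with hudef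
  have hu0 : B u u = 0 := by
    rw [hudef]
    simp only [map_add, LinearMap.add_apply, smul_left, smul_right, Q_range hF hg, Q_left hF hg]
    rw [show B u₀ (N hF g u₀) = Q hF g u₀ u₀ from rfl, show B u₀ (N hF g v₀) = Q hF g u₀ v₀ from rfl, huv, hvu, hu]
    linear_combination hc₁ + B u₀ u₀ * two_zero hF
  have hwu : B w u = 0 := by
    rw [hudef, map_add, map_add, smul_right, smul_right, show B w (N hF g u₀) = Q hF g w u₀ from rfl,
      show B w (N hF g v₀) = Q hF g w v₀ from rfl, ← σQ v₀ w, hQw, hvw, map_one,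
      ← σQ u₀ w, hQw, hw₀, Q_add_right hF hg, huv, huz, add_zero, map_zero, mul_zero, add_zero, mul_one, fadd hF]
  have hQu : ∀ x, Q hF g u x = Q hF g u₀ x := fun x => by
    rw [hudef, Q_add_left hF hg, Q_add_left hF hg, Q_smul_left hF hg, Q_smul_left hF hg, hQN', hQN',
      mul_zero, mul_zero, add_zero, add_zero]
  have hQuu : Q hF g u u = 1 := by rw [hQu, ← σQ, hQu, hu, map_one]
  have hQuw : Q hF g u w = 0 := by rw [hQu, hQw, hw₀, Q_add_right hF hg, huv, huz, add_zero]
  have huw : B u w = 0 := h.eq_zero_symm hwu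
  have key : ∀ x y, B x (ap hF g y) = B x y + Q hF g x y := fun x y => by rw [ap_eq_add hF, map_add, Q]
  have hugu : B u (ap hF g u) = 1 := by rw [key, hu0, hQuu, zero_add]
  have hwgw : B w (ap hF g w) = 0 := by rw [key, hw0, hQww, add_zero]
  have hugw : B u (ap hF g w) = 0 := by rw [key, huw, hQuw, add_zero]
  have hguw : B (ap hF g u) w = 0 := by rw [adjoint hF hg, hugw]
  have hu' : B (ap hF g u) (ap hF g u) = 0 := (HU.map_eq g u u).trans hu0
  have hw' : B (ap hF g w) (ap hF g w) = 0 := (HU.map_eq g w w).trans hw0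
  have hgugw : B (ap hF g u) (ap hF g w) = 0 := (HU.map_eq g u w).trans huw
  have hune : u ≠ 0 := fun e => one_ne_zero (α := F) (by rw [← hugu, e, zero_left])
  have hgune : ap hF g u ≠ 0 := fun e => one_ne_zero (α := F) (by rw [← hugu, e, map_zero])
  set x := t hF hu0 with hx
  set x' := t hF hu' with hx'
  set y := t hF hw0 with hy
  set y' := t hF hw' with hy'
  have ex : g * x * g⁻¹ = x' := t_conj hF g hu0
  have ey : g * y * g⁻¹ = y' := t_conj hF g hw0
  have hne : y' ≠ y := by
    intro e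
    have hNw : N hF g w ≠ 0 := fun e0 => one_ne_zero (α := F) (by rw [← hvw, ← hQw, Q, e0, map_zero])
    have hwne : w ≠ 0 := fun e0 => hNw (by rw [e0, N, ap, map_zero, add_zero])
    obtain ⟨p, hp⟩ := h.exists_apply_eq_one hwne
    have e2 := congrArg (fun k => ap hF k p) e
    simp only [hy, hy', ap, t_apply, add_right_inj] at e2
    rw [hp, one_smul] at e2
    have e3 := congrArg (N hF g) e2
    simp only [N, ap, map_smul] at e3
    rw [show (g : (Fin n → F) ≃ₗ[F] (Fin n → F)) (ap hF g w) = w from ap_ap hF hg w] at e3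
    have e4 : B (ap hF g w) p • N hF g w = N hF g w := by
      rw [show N hF g w = ap hF g w + w from rfl]
      conv_rhs => rw [← e3]
      rw [smul_add, add_comm]
    have e5 : (B (ap hF g w) p - 1) • N hF g w = 0 := by rw [sub_smul, e4, one_smul, sub_self]
    have e6 := sub_eq_zero.1 ((smul_eq_zero.1 e5).resolve_right hNw)
    rw [e6, one_smul] at e2
    exact hNw (by rw [N, show ap hF g w = w from e2, add_self_zero hF])
  have hsix := no_six (t_mul_self hF hu0) (t_mul_self hF hu') (t_mul_self hF hw0) (t_mul_self hF hw')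
    (t_comm hF hu0 hw0 huw) (t_comm hF hu0 hw' hugw) (t_comm hF hu' hw0 hguw) (t_comm hF hu' hw' hgugw)
    (t_comm hF hw0 hw' hwgw) hne
    (t_not_comm hF hu' hu0 (by rw [← h.symm, hugu, map_one]; exact one_ne_zero) hgune)
    (products hF hu' hu0)
  have e : g * (x * y * g * (x * y)⁻¹) = x' * x * (y' * y) := by
    have iy : y⁻¹ = y := inv_eq_of_mul_eq_one_right (t_mul_self hF hw0)
    have ix : x⁻¹ = x := inv_eq_of_mul_eq_one_right (t_mul_self hF hu0)
    have ig : g⁻¹ = g := inv_eq_of_mul_eq_one_right hg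
    calc g * (x * y * g * (x * y)⁻¹) = (g * x * g⁻¹) * (g * y * g⁻¹) * ((g * g) * (y⁻¹ * x⁻¹)) := by group
      _ = x' * (y' * y * x) := by rw [ex, ey, hg, one_mul, iy, ix]; simp only [mul_assoc]
      _ = x' * (x * (y' * y)) := by
        rw [((t_comm hF hu0 hw' hugw).mul_right (t_comm hF hu0 hw0 huw)).eq]
      _ = _ := by rw [mul_assoc]
  refine ⟨x * y, mul_mem (h.trGroup_le (h.tr_mem hu0 _)) (h.trGroup_le (h.tr_mem hw0 _)), ?_⟩
  rw [e]
  exact hsix

omit hg

theorem exists_iso_pair {m : ℕ} (f : Fin m → ((Fin n → F) →ₗ[F] F)) (hm : m + 2 ≤ n) :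
    ∃ v, v ≠ 0 ∧ B v v = 0 ∧ ∀ i, f i v = 0 := by
  classical
  have h := hermStd_isHerm (n := n) hF
  set L := LinearMap.pi f with hL
  have hd := LinearMap.finrank_range_add_finrank_ker L
  have hr : Module.finrank F (LinearMap.range L) ≤ m :=
    (Submodule.finrank_le _).trans (by rw [Module.finrank_fin_fun])
  rw [Module.finrank_fin_fun] at hd
  have hk : 2 ≤ Module.finrank F (LinearMap.ker L) := by omega
  have b := Module.finBasis F (LinearMap.ker L)
  let x : Fin n → F := b ⟨0, by omega⟩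
  let y₀ : Fin n → F := b ⟨1, by omega⟩
  have hne : ∀ c d : F, c • x + d • y₀ = 0 → c = 0 ∧ d = 0 := by
    intro c d e
    have e' : c • b ⟨0, by omega⟩ + d • b ⟨1, by omega⟩ = 0 := Subtype.ext e
    have hli := b.linearIndependent.linearIndepOn (s := {⟨0, by omega⟩, ⟨1, by omega⟩})
    have := congrArg b.repr e'
    simp only [map_add, map_smul, Module.Basis.repr_self, map_zero] at this
    refine ⟨?_, ?_⟩
    · simpa [Finsupp.single_apply, Fin.ext_iff] using DFunLike.congr_fun this ⟨0, by omega⟩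
    · simpa [Finsupp.single_apply, Fin.ext_iff] using DFunLike.congr_fun this ⟨1, by omega⟩
  have hmem : ∀ c d : F, ∀ i, f i (c • x + d • y₀) = 0 := by
    intro c d i
    have : L (c • x + d • y₀) = 0 :=
      LinearMap.mem_ker.1 (add_mem (Submodule.smul_mem _ c (Subtype.prop _)) (Submodule.smul_mem _ d (Subtype.prop _)))
    exact congrFun this i
  have hfin : ∀ c d : F, (c ≠ 0 ∨ d ≠ 0) → B (c • x + d • y₀) (c • x + d • y₀) = 0 →
      ∃ v, v ≠ 0 ∧ B v v = 0 ∧ ∀ i, f i v = 0 := fun c d hcd hi =>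
    ⟨_, fun e => hcd.elim (fun hc => hc (hne c d e).1) (fun hd => hd (hne c d e).2), hi, hmem c d⟩
  by_cases hx : B x x = 0
  · exact hfin 1 0 (Or.inl one_ne_zero) (by simpa using hx)
  have hx1 := fone hF hx (h.self_fixed x)
  set p := B x y₀ with hp
  have hpd : B y₀ x = powHom hF p := (h.symm x y₀).symm
  by_cases hy : B (p • x + y₀) (p • x + y₀) = 0
  · exact hfin p 1 (Or.inr one_ne_zero) (by simpa using hy)
  have hy1 := fone hF hy (h.self_fixed _)
  refine hfin (1 + p) 1 (Or.inr one_ne_zero) ?_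
  simp only [map_add, LinearMap.add_apply, smul_left, smul_right, one_smul, map_one, ← hp, hpd, hx1] at hy1 ⊢
  linear_combination hy1 + (1 + p + powHom hF p) * two_zero hF

theorem exists_scalar_mul (hn : n % 3 = 1) (s : HU (hermStd n hF)) :
    ∃ s', s' ∈ HSU (hermStd n hF) ∧ ∀ x : HU (hermStd n hF), s' * x * s'⁻¹ = s * x * s⁻¹ := by
  set δ := (HU.det (hermStd n hF) s)⁻¹ with hδ
  have hδ3 : δ ^ 3 = 1 := by
    classical
    have h := pow_card_eq_one (x := δ)
    rwa [Fintype.card_units, hF] at h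
  let z : (Fin n → F) ≃ₗ[F] (Fin n → F) := LinearEquiv.smulOfUnit δ
  have hzap : ∀ x, z x = (δ : F) • x := fun x => rfl
  have hzU : ∀ x y, B (z x) (z y) = B x y := fun x y => by
    rw [hzap, hzap, smul_left, smul_right, ← mul_assoc, norm_one hF (Units.ne_zero δ), one_mul]
  let Z : HU (hermStd n hF) := ⟨z, hzU⟩
  have hZ : ∀ x, Commute Z x := fun x => ext_ap hF fun v => by
    show z (ap hF x v) = ap hF x (z v)
    rw [hzap, hzap]
    exact (LinearEquiv.map_smul _ _ _).symm
  refine ⟨s * Z, ?_, fun x => ?_⟩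
  · rw [MonoidHom.mem_ker, map_mul]
    have hdet : HU.det (hermStd n hF) Z = δ ^ n := by
      ext
      show ((LinearEquiv.det z : Fˣ) : F) = _
      rw [LinearEquiv.coe_det, show (z : (Fin n → F) →ₗ[F] (Fin n → F)) = (δ : F) • LinearMap.id from
        LinearMap.ext fun x => hzap x, LinearMap.det_smul, LinearMap.det_id, mul_one, Module.finrank_fin_fun,
        Units.val_pow_eq_pow_val]
    rw [hdet, pow_eq_pow_mod n hδ3, hn, pow_one, hδ, mul_inv_cancel]
  · rw [mul_assoc s Z x, (hZ x).eq]; group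

/-- The case of rank two. -/
theorem bad_two (hn : 6 ≤ n) (hn3 : n % 3 = 1) {a b : Fin n → F} (ha : B a a = 0) (hb : B b b = 0) (hab : B a b = 0)
    (hli : LinearIndependent F ![a, b]) (hgab : g = t hF ha * t hF hb) :
    ∃ s : HU (hermStd n hF), s ∈ HSU (hermStd n hF) ∧
      (g * (s * g * s⁻¹)) ^ 2 ≠ 1 ∧ (g * (s * g * s⁻¹)) ^ 3 ≠ 1 := by
  have h := hermStd_isHerm (n := n) hF
  have hba : B b a = 0 := h.eq_zero_symm hab
  obtain ⟨a', haa', ha'b, ha'1⟩ :=
    h.exists_perp_partner (u := a) (w := b) (LinearIndependent.pair_symm_iff.1 hli) ha hba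
  have hb0 : b ≠ 0 := LinearIndependent.ne_zero 1 hli
  obtain ⟨f, hf⟩ := h.exists_apply_eq_one hb0
  obtain ⟨b', hb'0, hb', hb'f⟩ := exists_iso_pair hF ![B a, B a', B b, B f] (by omega)
  have hab' : B a b' = 0 := hb'f 0
  have ha'b' : B a' b' = 0 := hb'f 1
  have hbb' : B b b' = 0 := hb'f 2
  have hfb' : B f b' = 0 := hb'f 3
  have ha'0 : a' ≠ 0 := fun e => one_ne_zero (α := F) (by rw [← ha'1, e, map_zero])
  have hli' : ∀ c d : F, c • a' + d • b' = 0 → c = 0 ∧ d = 0 := by
    intro c d e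
    have e1 := congrArg (B a) e
    rw [map_add, smul_right, smul_right, ha'1, hab', mul_zero, add_zero, mul_one, map_zero] at e1
    rw [e1, zero_smul, zero_add] at e
    exact ⟨e1, (smul_eq_zero.1 e).resolve_right hb'0⟩
  let ψ := Fintype.linearCombination F ![a, b]
  let ψ' := Fintype.linearCombination F ![a', b']
  have hψ : ∀ c, ψ c = c 0 • a + c 1 • b := fun c => by
    simp [ψ, Fintype.linearCombination_apply, Fin.sum_univ_two]
  have hψ' : ∀ c, ψ' c = c 0 • a' + c 1 • b' := fun c => by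
    simp [ψ', Fintype.linearCombination_apply, Fin.sum_univ_two]
  have hinjψ : Function.Injective ψ := by
    rw [injective_iff_map_eq_zero]
    intro c hc
    rw [hψ] at hc
    obtain ⟨h0, h1⟩ := LinearIndependent.pair_iff.1 hli _ _ hc
    funext i; fin_cases i <;> assumption
  have hinjψ' : Function.Injective ψ' := by
    rw [injective_iff_map_eq_zero]
    intro c hc
    rw [hψ'] at hc
    obtain ⟨h0, h1⟩ := hli' _ _ hc
    funext i; fin_cases i <;> assumption
  let e := LinearEquiv.ofInjective ψ hinjψ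
  obtain ⟨s, hs⟩ := h.exists_extension (LinearMap.range ψ) (ψ'.comp e.symm.toLinearMap)
    (hinjψ'.comp e.symm.injective) (by
      rintro ⟨_, c, rfl⟩ ⟨_, d, rfl⟩
      have hc : e.symm ⟨ψ c, c, rfl⟩ = c := e.symm_apply_eq.2 rfl
      have hd : e.symm ⟨ψ d, d, rfl⟩ = d := e.symm_apply_eq.2 rfl
      show B (ψ' (e.symm _)) (ψ' (e.symm _)) = B (ψ c) (ψ d)
      rw [hc, hd, hψ, hψ, hψ', hψ']
      simp only [map_add, LinearMap.add_apply, smul_left, smul_right, ha, hb, hab, hba, haa', hb', ha'b',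
        h.eq_zero_symm ha'b', mul_zero, add_zero])
  have hsa : ∀ c, ap hF s (ψ c) = ψ' c := fun c => by
    have := hs ⟨ψ c, c, rfl⟩
    rw [LinearMap.comp_apply, LinearEquiv.coe_coe, show e.symm ⟨ψ c, c, rfl⟩ = c from e.symm_apply_eq.2 rfl] at this
    exact this
  have sa : ap hF s a = (1 : F) • a' := by
    have := hsa ![1, 0]; rw [hψ, hψ'] at this; simpa using this
  have sb : ap hF s b = (1 : F) • b' := by
    have := hsa ![0, 1]; rw [hψ, hψ'] at this; simpa using this
  obtain ⟨s', hs', hconj⟩ := exists_scalar_mul hF hn3 s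
  refine ⟨s', hs', ?_⟩
  rw [hconj]
  have hsg : s * g * s⁻¹ = t hF haa' * t hF hb' := by
    rw [hgab, show s * (t hF ha * t hF hb) * s⁻¹ = (s * t hF ha * s⁻¹) * (s * t hF hb * s⁻¹) by group,
      t_conj, t_conj, t_congr hF haa' _ one_ne_zero sa, t_congr hF hb' _ one_ne_zero sb]
  rw [hsg, hgab]
  have c1 : Commute (t hF hb) (t hF haa') := t_comm hF hb haa' (by rw [← h.symm, h.eq_zero_symm ha'b, map_zero])
  rw [show t hF ha * t hF hb * (t hF haa' * t hF hb') = t hF ha * t hF haa' * (t hF hb * t hF hb') by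
    rw [mul_assoc, ← mul_assoc (t hF hb), c1.eq, mul_assoc, ← mul_assoc]]
  refine no_six (t_mul_self hF haa') (t_mul_self hF ha) (t_mul_self hF hb') (t_mul_self hF hb)
    (t_comm hF haa' hb' ha'b') (t_comm hF haa' hb (h.eq_zero_symm ha'b)) (t_comm hF ha hb' hab')
    (t_comm hF ha hb hab) (t_comm hF hb' hb (h.eq_zero_symm hbb')) ?_ ?_ (products hF ha haa')
  · exact (t_ne hF hb' hb (y := f) (h.eq_zero_symm hfb') (by rw [hf]; exact one_ne_zero) hb0).symm
  · exact t_not_comm hF ha haa' (by rw [ha'1]; exact one_ne_zero) (LinearIndependent.ne_zero 0 hli)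

/-- An involution whose products with conjugates have order at most three is a transvection. -/
theorem eq_transvection (hn : 6 ≤ n) (hn3 : n % 3 = 1) (hg : g * g = 1) (h1 : g ≠ 1)
    (h23 : ∀ s ∈ HSU (hermStd n hF), (g * (s * g * s⁻¹)) ^ 2 = 1 ∨ (g * (s * g * s⁻¹)) ^ 3 = 1) :
    ∃ (a : Fin n → F) (ha : B a a = 0), a ≠ 0 ∧ g = t hF ha := by
  obtain ⟨u, hu⟩ := exists_Q_ne hF hg h1
  refine ⟨N hF g u, Q_centre hF hg, fun e => one_ne_zero (α := F) (by rw [← hu, Q, e, map_zero]), ?_⟩
  by_contra hne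
  obtain ⟨v, hv, huv⟩ := exists_second hF hg hu hne
  have hbad : ∃ s : HU (hermStd n hF), s ∈ HSU (hermStd n hF) ∧
      (g * (s * g * s⁻¹)) ^ 2 ≠ 1 ∧ (g * (s * g * s⁻¹)) ^ 3 ≠ 1 := by
    by_cases h2 : g = t hF (Q_centre hF hg (u := u)) * t hF (Q_centre hF hg (u := v))
    · refine bad_two hF hn hn3 _ _ (Q_range hF hg u v) ?_ h2
      rw [LinearIndependent.pair_iff]
      intro c d e
      have e1 := congrArg (B u) e
      have e2 := congrArg (B v) e
      have hvu : Q hF g v u = 0 := by rw [← Q_symm hF hg u v, huv, map_zero]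
      simp only [map_add, smul_right, map_zero] at e1 e2
      rw [show B u (N hF g u) = 1 from hu, show B u (N hF g v) = 0 from huv, mul_one, mul_zero, add_zero] at e1
      rw [show B v (N hF g u) = 0 from hvu, show B v (N hF g v) = 1 from hv, mul_one, mul_zero, zero_add] at e2
      exact ⟨e1, e2⟩
    · obtain ⟨z, hz, huz, hvz⟩ := exists_third hF hg hu hv huv h2
      exact bad_three hF hg hu hv hz huv huz hvz
  obtain ⟨s, hs, hn2, hn3'⟩ := hbad
  exact (h23 s hs).elim hn2 hn3'

end CfsgLib.ThreeTrans.RadicalAbelian
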